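import Groth.Agent.Fano.K289.UniqComp
import Groth.Agent.Fano.K798.DimGeo

/-!
# Upper bounds of dimensions by Jacobian ranks

* `codimGE_of_jac`: a closed subset all of whose points have `c` independent differentials of functions vanishing on
  the subset has codimension at least `c`.
* `exists_points`: evaluation points for a linear map into a space of functions.
-/

set_option autoImplicit false

universe u

namespace K972.JacDim

open LefPen Groth.Agent.Lefpen.H703.ZOpen Module K714.Irr K470.Cur MvPolynomial

variable {k : Type u} [Field k]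

/-- Independence of gradients at a point implies independence at every prime contained in the ideal of the point. -/
theorem lin_residue {N c : ℕ} (P : Ideal (MvPolynomial (Fin N) k)) [P.IsPrime] {x : Fin N → k}
    (hP : P ≤ K714.Comp.mx x) (g : Fin c → Fin N → MvPolynomial (Fin N) k)
    (hx : LinearIndependent k (fun i : Fin c => fun l : Fin N => eval x (g i l))) :
    LinearIndependent P.ResidueField (fun i : Fin c => fun l : Fin N =>
      algebraMap (MvPolynomial (Fin N) k) P.ResidueField (g i l)) := by
  classical
  -- a left inverse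
  obtain ⟨r, hr⟩ := LinearMap.exists_leftInverse_of_injective (Fintype.linearCombination k
    (fun i : Fin c => fun l : Fin N => eval x (g i l))) (by
      rw [LinearMap.ker_eq_bot]
      exact linearIndependent_iff_injective_fintypeLinearCombination.1 hx)
  let w : Fin c → Fin N → k := fun j l => r (Pi.single l 1) j
  have hw : ∀ i j, ∑ l, w j l * eval x (g i l) = if i = j then 1 else 0 := by
    intro i j
    have h1 : r (fun l => eval x (g i l)) = Pi.single i 1 := by
      have h2 := LinearMap.congr_fun hr (Pi.single i 1)
      simpa [Fintype.linearCombination_apply_single] using h2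
    have h3 : (fun l => eval x (g i l)) = ∑ l, eval x (g i l) • (Pi.single l 1 : Fin N → k) := by
      conv_lhs => rw [← Finset.univ_sum_single (fun l => eval x (g i l))]
      refine Finset.sum_congr rfl fun l _ => ?_
      rw [← Pi.single_smul, smul_eq_mul, mul_one]
    rw [h3, map_sum] at h1
    have h4 := congrFun h1 j
    simp only [map_smul, Finset.sum_apply, Pi.smul_apply, smul_eq_mul, Pi.single_apply] at h4
    simp only [eq_comm (a := i) (b := j)]
    rw [← h4]
    exact Finset.sum_congr rfl fun l _ => mul_comm _ _
  let G : Matrix (Fin c) (Fin c) (MvPolynomial (Fin N) k) := Matrix.of fun i j => ∑ l, C (w j l) * g i l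
  have hG : eval x G.det = 1 := by
    rw [RingHom.map_det]
    have : (eval x).mapMatrix G = 1 := by
      ext i j
      simp only [G, RingHom.mapMatrix_apply, Matrix.map_apply, Matrix.of_apply, map_sum, map_mul, eval_C, hw,
        Matrix.one_apply]
    rw [this, Matrix.det_one]
  have hGP : G.det ∉ P := fun h => by
    have := (K714.Comp.mem_mx x _).1 (hP h)
    rw [hG] at this
    exact one_ne_zero this
  have hdet : (G.map (algebraMap (MvPolynomial (Fin N) k) P.ResidueField)).det ≠ 0 := by
    have := RingHom.map_det (algebraMap (MvPolynomial (Fin N) k) P.ResidueField) G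
    rw [RingHom.mapMatrix_apply] at this
    rw [← this, Ne, Ideal.algebraMap_residueField_eq_zero]
    exact hGP
  rw [Fintype.linearIndependent_iff]
  intro a ha
  have h1 : Matrix.vecMul a (G.map (algebraMap (MvPolynomial (Fin N) k) P.ResidueField)) = 0 := by
    funext j
    simp only [Matrix.vecMul, dotProduct, Matrix.map_apply, Pi.zero_apply, G, Matrix.of_apply, map_sum, map_mul,
      Finset.mul_sum]
    rw [Finset.sum_comm]
    refine Finset.sum_eq_zero fun l _ => ?_
    have h2 := congrFun ha l
    simp only [Finset.sum_apply, Pi.smul_apply, smul_eq_mul, Pi.zero_apply] at h2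
    have h3 : ∀ i, a i * (algebraMap (MvPolynomial (Fin N) k) P.ResidueField (C (w j l)) *
        algebraMap (MvPolynomial (Fin N) k) P.ResidueField (g i l)) =
        algebraMap (MvPolynomial (Fin N) k) P.ResidueField (C (w j l)) *
        (a i * algebraMap (MvPolynomial (Fin N) k) P.ResidueField (g i l)) := fun i => by ring
    rw [Finset.sum_congr rfl fun i _ => h3 i, ← Finset.mul_sum, h2, mul_zero]
  have h2 := Matrix.eq_zero_of_vecMul_eq_zero hdet h1
  exact fun i => congrFun h2 i

variable {V : Type u} [AddCommGroup V] [Module k V]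

section

variable [IsAlgClosed k] [FiniteDimensional k V]

theorem codimGE_of_jac {S : Set V} (hS : IsZOpen k Sᶜ) (c : ℕ)
    (hjac : ∀ y ∈ S, ∃ h : Fin c → V → k, (∀ i, IsPolyFun k (h i)) ∧ (∀ i, ∀ s ∈ S, h i s = 0) ∧
      ∃ D : V →ₗ[k] (Fin c → k), Function.Surjective D ∧
        ∀ i v, ∃ q : Polynomial k, ∀ τ : k, h i (y + τ • v) = τ * D v i + τ ^ 2 * q.eval τ) :
    CodimGE k S c := by
  classical
  have : Infinite k := IsAlgClosed.instInfinite
  let b := finBasis k V
  rw [K714.Codim.codimGE_iff b, K714.Codim.le_height_iff]
  intro P hP hle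
  obtain ⟨x, hx⟩ := K714.Codim.exists_mem_zeroLocus P
  have hy : b.equivFun.symm x ∈ S := by
    refine K714.Codim.mem_of_mem_zeroLocus b hS _ ?_
    rw [LinearEquiv.apply_symm_apply]
    exact fun f hf => hx f (hle hf)
  obtain ⟨h, hh, h0, D, hD, hder⟩ := hjac _ hy
  choose H hH using fun i => K714.Codim.exists_mvPoly b (hh i)
  have hns := K289.UniqComp.nonsing (fun i => h0 i _ hy) D hD hder H hH
  rw [show (finBasis k V).equivFun (b.equivFun.symm x) = x from LinearEquiv.apply_symm_apply _ _] at hns
  have hPx : P ≤ K714.Comp.mx x := by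
    intro F hF
    rw [K714.Comp.mem_mx, ← aeval_eq_eval]
    exact hx F hF
  have hHP : ∀ i, H i ∈ P := by
    intro i
    apply hle
    rintro _ ⟨s, hs, rfl⟩
    rw [aeval_eq_eval, ← hH]
    exact h0 i s hs
  have h1 := Groth.Agent.Lefpen.H718.Reg.card_le_height P H hHP
    (lin_residue P hPx (fun i l => pderiv l (H i)) hns.2)
  rwa [Nat.card_eq_fintype_card, Fintype.card_fin] at h1

end

/-- Evaluation points. -/
theorem exists_points [FiniteDimensional k V] {X : Type u} (L : V →ₗ[k] (X → k)) {n : ℕ}
    (hn : n ≤ finrank k ↥(LinearMap.range L)) :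
    ∃ x : Fin n → X, Function.Surjective (LinearMap.pi fun i => (LinearMap.proj (x i)).comp L : V →ₗ[k] (Fin n → k)) := by
  classical
  let ev : X → Module.Dual k V := fun x => (LinearMap.proj x).comp L
  obtain ⟨b, hb, hspan, hli⟩ := exists_linearIndependent k (Set.range ev)
  have hker : (Submodule.span k (Set.range ev)).dualCoannihilator = LinearMap.ker L := by
    ext v
    rw [Submodule.mem_dualCoannihilator, LinearMap.mem_ker]
    constructor
    · intro h
      funext x
      exact h (ev x) (Submodule.subset_span ⟨x, rfl⟩)
    · intro h φ hφ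
      induction hφ using Submodule.span_induction with
      | mem φ hφ =>
        obtain ⟨x, rfl⟩ := hφ
        change L v x = 0
        rw [h]; rfl
      | zero => rfl
      | add a b _ _ ha hb => rw [LinearMap.add_apply, ha, hb, add_zero]
      | smul c a _ ha => rw [LinearMap.smul_apply, ha, smul_zero]
  have hfr : finrank k ↥(Submodule.span k (Set.range ev)) = finrank k ↥(LinearMap.range L) := by
    have h1 := Subspace.finrank_add_finrank_dualCoannihilator_eq (Submodule.span k (Set.range ev))
    rw [hker] at h1
    have h2 := L.finrank_range_add_finrank_ker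
    omega
  have hbfin : b.Finite := hli.setFinite
  have hcard : n ≤ hbfin.toFinset.card := by
    have h1 : finrank k ↥(Submodule.span k b) = hbfin.toFinset.card := by
      have := hbfin.fintype
      rw [finrank_span_set_eq_card hli, ← Set.Finite.toFinset_eq_toFinset hbfin]
    rw [← h1, hspan, hfr]
    exact hn
  obtain ⟨t, ht, htc⟩ := Finset.exists_subset_card_eq hcard
  let e : Fin n ≃ ↥t := (finCongr htc.symm).trans t.equivFin.symm
  have hmem : ∀ i, ((e i : ↥t) : Module.Dual k V) ∈ b := fun i => hbfin.mem_toFinset.1 (ht (e i).2)
  choose x hx using fun i => hb (hmem i)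
  refine ⟨x, ?_⟩
  have hli' : LinearIndependent k (fun i : Fin n => ((e i : ↥t) : Module.Dual k V)) := by
    have := hli.comp (fun i : Fin n => (⟨_, hmem i⟩ : ↥b)) (by
      intro i j hij
      exact e.injective (Subtype.ext (congrArg (fun z : ↥b => (z : Module.Dual k V)) hij)))
    exact this
  have heq : (LinearMap.pi fun i => (LinearMap.proj (x i)).comp L : V →ₗ[k] (Fin n → k)) =
      LinearMap.pi fun i : Fin n => ((e i : ↥t) : Module.Dual k V) := by
    refine LinearMap.ext fun v => funext fun i => ?_
    exact LinearMap.congr_fun (hx i) v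
  rw [heq]
  exact surjective_pi_of_li hli'
where
  surjective_pi_of_li {V : Type u} [AddCommGroup V] [Module k V] [FiniteDimensional k V] {n : ℕ}
      {l : Fin n → Module.Dual k V} (hl : LinearIndependent k l) :
      Function.Surjective (LinearMap.pi l : V →ₗ[k] (Fin n → k)) := by
    rw [← LinearMap.range_eq_top]
    by_contra hne
    obtain ⟨f, hf, hf0⟩ := Submodule.exists_le_ker_of_lt_top _ (lt_top_iff_ne_top.2 hne)
    apply hf
    have h1 : ∑ i, f (Pi.single i 1) • l i = 0 := by
      refine LinearMap.ext fun v => ?_
      have h2 : f (LinearMap.pi l v) = 0 := hf0 ⟨v, rfl⟩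
      have h3 : (LinearMap.pi l v : Fin n → k) = ∑ i, l i v • (Pi.single i 1 : Fin n → k) := by
        conv_lhs => rw [← Finset.univ_sum_single (LinearMap.pi l v : Fin n → k)]
        refine Finset.sum_congr rfl fun i _ => ?_
        rw [← Pi.single_smul, smul_eq_mul, mul_one]
        rfl
      rw [h3, map_sum] at h2
      simp only [map_smul, smul_eq_mul] at h2
      rw [LinearMap.sum_apply]
      simp only [LinearMap.smul_apply, smul_eq_mul, LinearMap.zero_apply]
      rw [← h2]
      exact Finset.sum_congr rfl fun i _ => mul_comm _ _
    have h4 := Fintype.linearIndependent_iff.1 hl _ h1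
    refine LinearMap.pi_ext' fun i => ?_
    ext
    simpa using h4 i

end K972.JacDim
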