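import Groth.Agent.Fano.K972.BadRank
import Groth.Agent.Fano.K972.JacDim
import Groth.Agent.Fano.K461.Top
import Groth.Agent.Fano.K305.DimA

/-!
# `Sol13 T` is irreducible as soon as its good part is

`irr_sol13_of`: the part of `Sol13 T` where `h` is a combination of `u` has dimension at most 29, all components of
`Sol13 T` have dimension at least 30.
-/

set_option autoImplicit false

universe u

namespace K972.Sol13

open K656.Trilin Module K714.Surf K972.Core K713.PP K972.BadRank LefPen Groth.Agent.Lefpen.H703.ZOpen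
  K714.Irr K470.Cur

variable {k : Type u} [Field k]

/-- the ambient space of `Sol13` -/
abbrev W65 (k : Type u) [Field k] : Type u :=
  E k × (Fin 3 → E k) × (Fin 3 → E k) × (Fin 3 → E k) × (Fin 3 → E k)

theorem finrank_E : finrank k (E k) = 5 := by
  rw [Subspace.dual_finrank_eq, finrank_fin_fun]

theorem finrank_W65 : finrank k (W65 k) = 65 := by
  simp only [finrank_prod, finrank_pi_fintype, finrank_E, Finset.sum_const, Finset.card_univ, Fintype.card_fin,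
    smul_eq_mul]

theorem finrank_W63 : finrank k (W63 k) = 63 := by
  simp only [finrank_prod, finrank_pi_fintype, finrank_E, Finset.sum_const, Finset.card_univ, Fintype.card_fin,
    smul_eq_mul, finrank_self]

section Poly

/-- evaluation of a component -/
theorem pf_eval {V : Type u} [AddCommGroup V] [Module k V] (l : V →ₗ[k] E k) (x : Fin 5 → k) :
    IsPolyFun k (fun v => l v x) :=
  isPolyFun_linear' ((LinearMap.applyₗ x : E k →ₗ[k] k).comp l)

theorem pf_cub {V : Type u} [AddCommGroup V] [Module k V] {h : V → k} {u v c d : Fin 3 → V → k}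
    (hh : IsPolyFun k h) (hu : ∀ i, IsPolyFun k (u i)) (hv : ∀ i, IsPolyFun k (v i)) (hc : ∀ i, IsPolyFun k (c i))
    (hd : ∀ i, IsPolyFun k (d i)) :
    IsPolyFun k (fun w => h w * ∑ i, u i w * d i w + ∑ i, u i w * (v (i + 1) w * c (i + 2) w - v (i + 2) w * c (i + 1) w)) :=
  pf_add (pf_mul hh (pf_sum _ fun i _ => pf_mul (hu i) (hd i)))
    (pf_sum _ fun i _ => pf_mul (hu i) (pf_sub (pf_mul (hv _) (hc _)) (pf_mul (hv _) (hc _))))

theorem pf_cubW (x : Fin 5 → k) : IsPolyFun k (fun w : W63 k => cubW w x) := by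
  have e : (fun w : W63 k => cubW w x) = fun w => (∑ i, w.1 i * w.2.1 i x) * ∑ i, w.2.1 i x * w.2.2.2.2 i x +
      ∑ i, w.2.1 i x * (w.2.2.1 (i + 1) x * w.2.2.2.1 (i + 2) x - w.2.2.1 (i + 2) x * w.2.2.2.1 (i + 1) x) := by
    funext w
    simp only [cubW, cub, dl, LinearMap.sum_apply, LinearMap.smul_apply, smul_eq_mul]
  rw [e]
  refine pf_cub (h := fun w : W63 k => ∑ i, w.1 i * w.2.1 i x) (u := fun i w => w.2.1 i x)
    (v := fun i w => w.2.2.1 i x) (c := fun i w => w.2.2.2.1 i x) (d := fun i w => w.2.2.2.2 i x)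
    (pf_sum _ fun i _ => pf_mul (f := fun w : W63 k => w.1 i) (isPolyFun_linear'
      (⟨⟨fun w => w.1 i, fun _ _ => rfl⟩, fun _ _ => rfl⟩ : W63 k →ₗ[k] k)) ?_)
    ?_ ?_ ?_ ?_
  · exact pf_eval (⟨⟨fun w => w.2.1 i, fun _ _ => rfl⟩, fun _ _ => rfl⟩ : W63 k →ₗ[k] E k) x
  · exact fun i => pf_eval (⟨⟨fun w => w.2.1 i, fun _ _ => rfl⟩, fun _ _ => rfl⟩ : W63 k →ₗ[k] E k) x
  · exact fun i => pf_eval (⟨⟨fun w => w.2.2.1 i, fun _ _ => rfl⟩, fun _ _ => rfl⟩ : W63 k →ₗ[k] E k) x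
  · exact fun i => pf_eval (⟨⟨fun w => w.2.2.2.1 i, fun _ _ => rfl⟩, fun _ _ => rfl⟩ : W63 k →ₗ[k] E k) x
  · exact fun i => pf_eval (⟨⟨fun w => w.2.2.2.2 i, fun _ _ => rfl⟩, fun _ _ => rfl⟩ : W63 k →ₗ[k] E k) x

/-- the cubic form of a point of the ambient space of `Sol13` -/
def cub5 (q : W65 k) (x : Fin 5 → k) : k := cub q.1 q.2.1 q.2.2.1 q.2.2.2.1 q.2.2.2.2 x

theorem pf_cub5 (x : Fin 5 → k) : IsPolyFun k (fun w : W65 k => cub5 w x) := by
  refine pf_cub (h := fun w : W65 k => w.1 x) (u := fun i w => w.2.1 i x)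
    (v := fun i w => w.2.2.1 i x) (c := fun i w => w.2.2.2.1 i x) (d := fun i w => w.2.2.2.2 i x)
    ?_ ?_ ?_ ?_ ?_
  · exact pf_eval (⟨⟨fun w => w.1, fun _ _ => rfl⟩, fun _ _ => rfl⟩ : W65 k →ₗ[k] E k) x
  · exact fun i => pf_eval (⟨⟨fun w => w.2.1 i, fun _ _ => rfl⟩, fun _ _ => rfl⟩ : W65 k →ₗ[k] E k) x
  · exact fun i => pf_eval (⟨⟨fun w => w.2.2.1 i, fun _ _ => rfl⟩, fun _ _ => rfl⟩ : W65 k →ₗ[k] E k) x
  · exact fun i => pf_eval (⟨⟨fun w => w.2.2.2.1 i, fun _ _ => rfl⟩, fun _ _ => rfl⟩ : W65 k →ₗ[k] E k) x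
  · exact fun i => pf_eval (⟨⟨fun w => w.2.2.2.2 i, fun _ _ => rfl⟩, fun _ _ => rfl⟩ : W65 k →ₗ[k] E k) x

theorem cub5_eq (q : W65 k) (x : Fin 5 → k) : cub5 q x = q.1 x * ∑ i, q.2.1 i x * q.2.2.2.2 i x +
    det3 (fun i => q.2.1 i x) (fun i => q.2.2.1 i x) (fun i => q.2.2.2.1 i x) := by
  simp only [cub5, cub, dl, det3, Fin.sum_univ_three, Fin.reduceAdd, zero_add]
  ring

theorem cub5_mem (q : W65 k) : (fun x => cub5 q x) ∈ M35 k := by
  have h : ∀ e e' e'' : E k, (fun x => e x * e' x * e'' x) ∈ M35 k := mem_M35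
  have e : (fun x => cub5 q x) = ∑ i, (fun x => q.1 x * q.2.1 i x * q.2.2.2.2 i x) +
      ∑ i, ((fun x => q.2.1 i x * q.2.2.1 (i + 1) x * q.2.2.2.1 (i + 2) x) -
        fun x => q.2.1 i x * q.2.2.1 (i + 2) x * q.2.2.2.1 (i + 1) x) := by
    funext x
    simp only [cub5, cub, dl, Pi.add_apply, Finset.sum_apply, Pi.sub_apply, Finset.mul_sum]
    congr 1
    · exact Finset.sum_congr rfl fun i _ => by ring
    · exact Finset.sum_congr rfl fun i _ => by ring
  rw [e]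
  exact Submodule.add_mem _ (Submodule.sum_mem _ fun i _ => h _ _ _)
    (Submodule.sum_mem _ fun i _ => Submodule.sub_mem _ (h _ _ _) (h _ _ _))

end Poly

variable {T : (Fin 5 → k) →ₗ[k] (Fin 5 → k) →ₗ[k] (Fin 5 → k) →ₗ[k] k}

theorem mem_sol13_iff {q : W65 k} : q ∈ Sol13 T ↔ ∀ x, T x x x = cub5 q x := by
  change (∀ x, _) ↔ _
  exact forall_congr' fun x => by rw [cub5_eq]

section Main

variable [IsAlgClosed k] [CharZero k]

omit [CharZero k] in
/-- 35 points detecting cubic forms -/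
theorem exists_pts : ∃ y : Fin 35 → (Fin 5 → k), ∀ m ∈ M35 k, (∀ i, m (y i) = 0) → m = 0 := by
  have : Infinite k := IsAlgClosed.instInfinite
  obtain ⟨y, hy⟩ := JacDim.exists_points (M35 k).subtype (n := 35) (by
    rw [LinearMap.finrank_range_of_inj (M35 k).injective_subtype, finrank_M35])
  refine ⟨y, fun m hm h0 => ?_⟩
  have hinj : Function.Injective (LinearMap.pi fun i => (LinearMap.proj (y i)).comp (M35 k).subtype :
      ↥(M35 k) →ₗ[k] (Fin 35 → k)) := by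
    rwa [LinearMap.injective_iff_surjective_of_finrank_eq_finrank (by rw [finrank_M35, finrank_fin_fun])]
  have := @hinj ⟨m, hm⟩ 0 (by
    rw [map_zero]
    funext i
    exact h0 i)
  exact congrArg (fun z : ↥(M35 k) => (z : A k)) this

omit [CharZero k] in
/-- `Sol13` is given by 35 equations -/
theorem exists_eqs (T : (Fin 5 → k) →ₗ[k] (Fin 5 → k) →ₗ[k] (Fin 5 → k) →ₗ[k] k) :
    ∃ h : Fin 35 → W65 k → k, (∀ i, IsPolyFun k (h i)) ∧ Sol13 T = {q | ∀ i, h i q = 0} := by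
  obtain ⟨y, hy⟩ := exists_pts (k := k)
  refine ⟨fun i q => T (y i) (y i) (y i) - cub5 q (y i), fun i => pf_sub (isPolyFun_const _) (pf_cub5 _), ?_⟩
  ext q
  rw [mem_sol13_iff, Set.mem_ofPred_eq]
  constructor
  · intro h i
    change T (y i) (y i) (y i) - cub5 q (y i) = 0
    rw [h, sub_self]
  · intro h x
    have h1 := hy ((fun x => T x x x) - fun x => cub5 q x) (Submodule.sub_mem _ (T_mem T) (cub5_mem q)) h
    exact sub_eq_zero.1 (congrFun h1 x)

/-- the bad part -/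
def Bd (T : (Fin 5 → k) →ₗ[k] (Fin 5 → k) →ₗ[k] (Fin 5 → k) →ₗ[k] k) : Set (W65 k) :=
  {q | q ∈ Sol13 T ∧ q.1 ∈ Submodule.span k (Set.range q.2.1)}

/-- its parameter space -/
def Bp (T : (Fin 5 → k) →ₗ[k] (Fin 5 → k) →ₗ[k] (Fin 5 → k) →ₗ[k] k) : Set (W63 k) :=
  {w | ∀ x, T x x x = cubW w x}

theorem dimLE_Bp (hT : IsSym3 T) (hsm : SmoothOn T ⊤) : DimLE k (Bp T) 29 := by
  have : Infinite k := IsAlgClosed.instInfinite
  rw [K798.Dim.dimLE_iff_codimGE (by rw [finrank_W63]; norm_num), finrank_W63]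
  refine JacDim.codimGE_of_jac ?_ 34 fun w hw => ?_
  · intro w hw
    simp only [Bp, Set.mem_compl_iff, Set.mem_ofPred_eq, not_forall] at hw
    obtain ⟨x, hx⟩ := hw
    refine ⟨fun w => T x x x - cubW w x, pf_sub (isPolyFun_const _) (pf_cubW x), sub_ne_zero.2 hx, fun w' hw' h => hw' ?_⟩
    change T x x x - cubW w' x = 0
    rw [h x, sub_self]
  · obtain ⟨x, hx⟩ := JacDim.exists_points (dcub w) (le_finrank hT hsm hw)
    refine ⟨fun i w' => cubW w' (x i) - T (x i) (x i) (x i), fun i => pf_sub (pf_cubW _) (isPolyFun_const _),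
      fun i s hs => by
        change cubW s (x i) - T (x i) (x i) (x i) = 0
        rw [hs (x i), sub_self], _, hx, fun i δ => ?_⟩
    obtain ⟨q, hq⟩ := taylor w δ (x i)
    refine ⟨q, fun τ => ?_⟩
    change cubW (w + τ • δ) (x i) - T (x i) (x i) (x i) = τ * dcub w δ (x i) + τ ^ 2 * Polynomial.eval τ q
    rw [hq, hw (x i)]
    ring

theorem dimLE_Bd (hT : IsSym3 T) (hsm : SmoothOn T ⊤) : DimLE k (Bd T) 29 := by
  let φ : W63 k → W65 k := fun w => (∑ i, w.1 i • w.2.1 i, w.2)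
  have hφ : IsPolyMap k φ := by
    refine pm_prodMk ?_ isPolyMap_snd
    intro l
    have e : (fun w : W63 k => l (∑ i, w.1 i • w.2.1 i)) = fun w => ∑ i, w.1 i * l (w.2.1 i) := by
      funext w
      simp only [map_sum, map_smul, smul_eq_mul]
    rw [e]
    exact pf_sum _ fun i _ => pf_mul
      (isPolyFun_linear' (⟨⟨fun w => w.1 i, fun _ _ => rfl⟩, fun _ _ => rfl⟩ : W63 k →ₗ[k] k))
      (isPolyFun_linear' (l.comp (⟨⟨fun w => w.2.1 i, fun _ _ => rfl⟩, fun _ _ => rfl⟩ : W63 k →ₗ[k] E k)))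
  refine K305.DimA.DimLE.mono (S' := φ '' Bp T) ?_ (K305.DimA.DimLE.image (dimLE_Bp hT hsm) hφ)
  rintro ⟨h, u, r⟩ ⟨hq, hh⟩
  obtain ⟨p, hp⟩ := (Submodule.mem_span_range_iff_exists_fun k).1 hh
  change ∑ i, p i • u i = h at hp
  subst hp
  exact ⟨(p, u, r), fun x => mem_sol13_iff.1 hq x, rfl⟩

/-- Irreducibility of `Sol13` from the good part. -/
theorem irr_sol13_of (hT : IsSym3 T) (hsm : SmoothOn T ⊤)
    (hgood : Irr k {q : W65 k | q ∈ Sol13 T ∧ q.1 ∉ Submodule.span k (Set.range q.2.1)}) : Irr k (Sol13 T) := by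
  have : Infinite k := IsAlgClosed.instInfinite
  refine hgood.of_dense (fun q hq => hq.1) fun q hq O hO hqO => ?_
  obtain ⟨h, hh, hS⟩ := exists_eqs T
  have hclosed : IsZOpen k (Sol13 T)ᶜ := by
    rw [hS]
    intro q hq
    simp only [Set.mem_compl_iff, Set.mem_ofPred_eq, not_forall] at hq
    obtain ⟨i, hi⟩ := hq
    exact ⟨h i, hh i, hi, fun w hw h0 => hw (h0 i)⟩
  obtain ⟨C, hC, hqC⟩ := K461.Top.mem_comp hclosed hq
  have hC' : IsComp k {q | ∀ i, h i q = 0} C := hS ▸ hC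
  have hdim : DimGE k C 30 := K798.Dim.pit hh hC' (by rw [finrank_W65])
  have hdim' : DimGE k (C ∩ O) 30 := K305.DimA.DimGE.inter_open hC.2.1 hO ⟨q, hqC, hqO⟩ hdim
  by_contra hcon
  refine dimLE_Bd hT hsm (K305.DimA.DimGE.mono (fun z hz => ⟨hC.1 hz.1, ?_⟩) hdim')
  by_contra hz'
  exact hcon ⟨z, ⟨hC.1 hz.1, hz'⟩, hz.2⟩

end Main

end K972.Sol13
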