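import Groth.Agent.Fano.K105.Sol4Dual
import Groth.Agent.Fano.K692.GoodIrr
import Groth.Agent.Fano.K713.PfJump3
import Groth.Agent.Fano.K714.FrIrr
import Groth.Agent.Fano.K972.Sol13

/-!
# The Pfaffian representations of a smooth cubic threefold form an irreducible set (S16528)

* `irr_sol13` : the decompositions `f = h (u · d) + det (u, v, c)` form an irreducible set.
* `irr_PP` : the `6 × 6` skew matrices of linear forms with Pfaffian `f` form an irreducible set.

The proof is the composite of `K105` (decompositions `h Q + ∑ v_i P_ij y_j`), `K409` (determinants on a hyperplane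
section), `K692` (the good part), `K972.Sol13` (the bad part) and `K713` (jumping vectors).
-/

set_option autoImplicit false

universe u

namespace K972.IrrPP

open K656.Trilin K714.Surf K714.Irr K714.Frames K255.Pf

variable {k : Type u} [Field k] [IsAlgClosed k] [CharZero k]

/-- The decompositions of a smooth cubic threefold as `h (u · d) + det (u, v, c)` form an irreducible set. -/
theorem irr_sol13 {f : MvPolynomial (Fin 5) k} (hf : f.IsHomogeneous 3) (hsm : SmoothOn (tri f) ⊤) :
    Irr k (K713.PP.Sol13 (tri f)) :=
  K972.Sol13.irr_sol13_of (tri_sym f) hsm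
    (K692.Good13.irr_good (tri_sym f) hsm (K105.Sol4.irr_DDh hf hsm) (frames_irr (tri_sym f) hsm))

/-- **The Pfaffian representations of a smooth cubic threefold form an irreducible set.** -/
theorem irr_PP (f : MvPolynomial (Fin 5) k) (hf : f.IsHomogeneous 3)
    (hsm : K714.Surf.SmoothOn (K656.Trilin.tri f) ⊤) : K714.Irr.Irr k (PP f) :=
  K713.PfJump.irr_PP_of_sol f hf hsm (irr_sol13 hf hsm)

end K972.IrrPP
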