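import Groth.Agent.Sga5.ProjChart
import Mathlib.RingTheory.MvPolynomial.EulerIdentity
import Mathlib.Algebra.MvPolynomial.Derivation
import Mathlib.Tactic

/-!
# The derivation on an affine chart of `P^n` defined by a vector field with polynomial coefficients

`q_l` polynomials on the cone: the derivation `Dm m q` of `k[y_j]` with `y_j ↦ q_j - y_j q_m` on the chart `x_m = 1`.

* `Dm_dehom` : `D (G(y)) = ∑ q_l ∂_l G (y) - q_m(y) ∑ x_l ∂_l G (y)`;
* `Dm_dehom_hom` : the same for a form of degree `e` (Euler);
* `fld f w w'` : the field `∂_{w'} f · w - ∂_w f · w'`, which kills `f`; `Dm_f`, `Dm_lin`.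
-/

set_option autoImplicit false

universe u

namespace K972.GradDer

open MvPolynomial Groth.Agent.Sga5

variable {k : Type u} [Field k] {n : ℕ}

/-- derivation on the affine chart -/
noncomputable def Dm (m : Fin (n + 1)) (q : Fin (n + 1) → MvPolynomial (Fin (n + 1)) k) :
    Derivation k (MvPolynomial (Fin n) k) (MvPolynomial (Fin n) k) :=
  MvPolynomial.mkDerivation k fun j =>
    ProjChart.dehom n k m (q (m.succAbove j)) - X j * ProjChart.dehom n k m (q m)

variable (m : Fin (n + 1)) (q : Fin (n + 1) → MvPolynomial (Fin (n + 1)) k)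

theorem Dm_dehom_X (l : Fin (n + 1)) : Dm m q (ProjChart.dehom n k m (X l)) =
    ProjChart.dehom n k m (q l) - ProjChart.dehom n k m (X l) * ProjChart.dehom n k m (q m) := by
  rcases Fin.eq_self_or_eq_succAbove m l with rfl | ⟨j, rfl⟩
  · rw [ProjChart.dehom_X_self, Derivation.map_one_eq_zero]
    ring
  · rw [ProjChart.dehom_X, Dm, mkDerivation_X]

theorem Dm_dehom (G : MvPolynomial (Fin (n + 1)) k) : Dm m q (ProjChart.dehom n k m G) =
    ProjChart.dehom n k m (∑ l, q l * pderiv l G) -
      ProjChart.dehom n k m (q m) * ProjChart.dehom n k m (∑ l, X l * pderiv l G) := by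
  induction G using MvPolynomial.induction_on with
  | C a => simp
  | add p p' hp hp' =>
    rw [map_add, map_add, hp, hp']
    simp only [map_add, mul_add, Finset.sum_add_distrib]
    ring
  | mul_X p i hp =>
    have h1 : ∀ (z : Fin (n + 1) → MvPolynomial (Fin (n + 1)) k), ∑ l, z l * pderiv l (p * X i) =
        (∑ l, z l * pderiv l p) * X i + z i * p := by
      intro z
      have h2 : ∀ l, z l * pderiv l (p * X i) = z l * pderiv l p * X i + z l * (p * pderiv l (X i)) := by
        intro l
        rw [Derivation.leibniz, smul_eq_mul, smul_eq_mul]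
        ring
      have h3 : ∑ l, z l * (p * pderiv l (X i : MvPolynomial (Fin (n + 1)) k)) = z i * p := by
        rw [Finset.sum_eq_single i]
        · rw [pderiv_X_self, mul_one]
        · intro b _ hb
          rw [pderiv_X_of_ne (Ne.symm hb), mul_zero, mul_zero]
        · intro h; exact absurd (Finset.mem_univ i) h
      rw [Finset.sum_congr rfl fun l _ => h2 l, Finset.sum_add_distrib, h3, ← Finset.sum_mul]
    rw [map_mul, Derivation.leibniz, hp, Dm_dehom_X, h1, h1]
    simp only [map_add, map_mul, smul_eq_mul]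
    ring

theorem Dm_dehom_hom {e : ℕ} {G : MvPolynomial (Fin (n + 1)) k} (hG : G.IsHomogeneous e) :
    Dm m q (ProjChart.dehom n k m G) = ProjChart.dehom n k m (∑ l, q l * pderiv l G) -
      ProjChart.dehom n k m (q m) * ((e : MvPolynomial (Fin n) k) * ProjChart.dehom n k m G) := by
  rw [Dm_dehom, hG.sum_X_mul_pderiv, map_nsmul, nsmul_eq_mul]

/-- the derivative in the direction `w` -/
noncomputable def dir (w : Fin (n + 1) → k) (f : MvPolynomial (Fin (n + 1)) k) : MvPolynomial (Fin (n + 1)) k :=
  ∑ l, C (w l) * pderiv l f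

/-- the field `∂_{w'} f · w - ∂_w f · w'` -/
noncomputable def fld (f : MvPolynomial (Fin (n + 1)) k) (w w' : Fin (n + 1) → k) (l : Fin (n + 1)) :
    MvPolynomial (Fin (n + 1)) k :=
  dir w' f * C (w l) - dir w f * C (w' l)

theorem sum_fld (f : MvPolynomial (Fin (n + 1)) k) (w w' : Fin (n + 1) → k) (G : MvPolynomial (Fin (n + 1)) k) :
    ∑ l, fld f w w' l * pderiv l G = dir w' f * dir w G - dir w f * dir w' G := by
  simp only [fld, sub_mul, Finset.sum_sub_distrib, mul_assoc, ← Finset.mul_sum]
  rfl

/-- the field is tangent to `f = 0` -/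
theorem Dm_f {e : ℕ} {f : MvPolynomial (Fin (n + 1)) k} (hf : f.IsHomogeneous e) (w w' : Fin (n + 1) → k) :
    Dm m (fld f w w') (ProjChart.dehom n k m f) = - (ProjChart.dehom n k m (fld f w w' m) *
      (e : MvPolynomial (Fin n) k)) * ProjChart.dehom n k m f := by
  rw [Dm_dehom_hom m _ hf, sum_fld]
  have h : dir w' f * dir w f - dir w f * dir w' f = 0 := by ring
  rw [h, map_zero]
  ring

/-- the derivative of a linear form -/
theorem Dm_lin (f : MvPolynomial (Fin (n + 1)) k) (w w' : Fin (n + 1) → k) {l₀ : MvPolynomial (Fin (n + 1)) k}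
    (hl : l₀.IsHomogeneous 1) (h0 : dir w l₀ = 0) (h1 : dir w' l₀ = 1) :
    Dm m (fld f w w') (ProjChart.dehom n k m l₀) = - ProjChart.dehom n k m (dir w f) -
      ProjChart.dehom n k m (fld f w w' m) * ProjChart.dehom n k m l₀ := by
  rw [Dm_dehom_hom m _ hl, sum_fld, h0, h1, mul_zero, mul_one, zero_sub, map_neg, Nat.cast_one, one_mul]

end K972.GradDer
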