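import Groth.Agent.Fano.K972.Core
import Groth.Agent.Fano.K714.TypeConst2

/-!
# The bad part of the Pfaffian locus: corank at most one
-/

set_option autoImplicit false

universe u v w

namespace K972.Bad

open K656.Trilin Module K714.Surf K972.Core

variable {k : Type u} [Field k] {V : Type u} [AddCommGroup V] [Module k V]
  {T : V →ₗ[k] V →ₗ[k] V →ₗ[k] k}
variable {h : Dual k V} {u v c d : Fin 3 → Dual k V}

section Deriv

variable [CharZero k]

theorem deriv (hT : IsSym3 T) (hf : ∀ x, T x x x = cub h u v c d x) (x y : V) :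
    3 * T x x y = h y * ∑ i, u i x * d i x + h x * ∑ i, (u i y * d i x + u i x * d i y) +
      ∑ i, (u i y * dl v c i x + u i x * (v (i + 1) y * c (i + 2) x + v (i + 1) x * c (i + 2) y -
        v (i + 2) y * c (i + 1) x - v (i + 2) x * c (i + 1) y)) := by
  have g : ∀ t : k, T x x x + 3 * t * T x x y + 3 * t ^ 2 * T x y y + t ^ 3 * T y y y =
      cub h u v c d (x + t • y) := fun t => by rw [← hT.cube_add_smul]; exact hf _
  have g1 := g 1
  have g2 := g (-1)
  have g3 := g 2
  have g4 := g (-2)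
  simp only [cub, dl, Fin.sum_univ_three, map_add, map_smul, smul_eq_mul, Fin.reduceAdd, zero_add] at g1 g2 g3 g4 ⊢
  linear_combination (8 * (g1 - g2) - (g3 - g4)) / 12

end Deriv

section Smooth

variable [CharZero k]

/-- no common zero of the cofactors on `ℓ'` -/
theorem S1 (hT : IsSym3 T) (hsm : SmoothOn T ⊤) (hf : ∀ x, T x x x = cub (u 2) u v c d x) {x : V}
    (hx : ∀ i, u i x = 0) (hd : ∀ i, dl v c i x = 0) : x = 0 := by
  by_contra hne
  have h0 : T x x x = 0 := by rw [hf, cub, hx 2]; simp [hx]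
  obtain ⟨y, -, hy⟩ := hsm x trivial hne h0
  have := deriv hT hf x y
  simp only [hx, hd, zero_mul, mul_zero, add_zero, Finset.sum_const_zero] at this
  exact hy ((mul_eq_zero.1 this).resolve_left three_ne_zero)

theorem S2 (hT : IsSym3 T) (hsm : SmoothOn T ⊤) (hf : ∀ x, T x x x = cub (u 2) u v c d x) {x : V}
    (hx : ∀ j, ww u v c j x = 0) (h1 : u 0 x * v 1 x - u 1 x * v 0 x = 0)
    (h2 : c 0 x * u 1 x - c 1 x * u 0 x = 0) (h3 : dl v c 2 x + u 0 x * d 0 x + u 1 x * d 1 x = 0) : x = 0 := by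
  have hu : u 2 x = 0 := hx 0
  have hv : v 2 x = 0 := hx 1
  have hc : c 2 x = 0 := hx 2
  simp only [dl, Fin.reduceAdd] at h3
  by_contra hne
  have h0 : T x x x = 0 := by
    rw [hf, cub]
    simp only [dl, Fin.sum_univ_three, Fin.reduceAdd, zero_add, hu, hv, hc]
    ring
  obtain ⟨y, -, hy⟩ := hsm x trivial hne h0
  have := deriv hT hf x y
  simp only [dl, Fin.sum_univ_three, Fin.reduceAdd, zero_add, hu, hv, hc] at this
  refine hy ((mul_eq_zero.1 (?_ : (3 : k) * T x x y = 0)).resolve_left three_ne_zero)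
  linear_combination this + u 2 y * h3 + c 2 y * h1 + v 2 y * h2

end Smooth

section Planes

variable [IsAlgClosed k] [CharZero k] [FiniteDimensional k V]

theorem no3 (hT : IsSym3 T) (hV : finrank k V = 5) (hsm : SmoothOn T ⊤) {W : Submodule k V}
    (hW : 3 ≤ finrank k ↥W) : ∃ x ∈ W, T x x x ≠ 0 := by
  by_contra hcon
  push Not at hcon
  obtain ⟨g, hg⟩ := exists_linearIndependent_of_le_finrank hW
  have hg' : LinearIndependent k (fun i => (g i : V)) := hg.map' W.subtype W.ker_subtype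
  refine K714.TypeConst.no_plane hT hV hsm (P := Submodule.span k (Set.range fun i => (g i : V)))
    (by rw [finrank_span_eq_card hg', Fintype.card_fin]) fun v hv => hcon v ?_
  refine Submodule.span_le.2 ?_ hv
  rintro _ ⟨i, rfl⟩
  exact (g i).2

/-- the common zeros of three linear forms -/
def zer (w : Fin 3 → Dual k V) : Submodule k V := LinearMap.ker (LinearMap.pi w)

omit [IsAlgClosed k] [CharZero k] [FiniteDimensional k V] in
theorem mem_zer {w : Fin 3 → Dual k V} {x : V} : x ∈ zer w ↔ ∀ i, w i x = 0 := by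
  rw [zer, LinearMap.mem_ker]
  constructor
  · intro h i
    exact congrFun h i
  · intro h
    funext i
    exact h i

theorem finrank_zer (hT : IsSym3 T) (hV : finrank k V = 5) (hsm : SmoothOn T ⊤) {w : Fin 3 → Dual k V}
    (hw : ∀ x, (∀ i, w i x = 0) → T x x x = 0) : finrank k ↥(zer w) = 2 := by
  have h1 := (LinearMap.pi w : V →ₗ[k] (Fin 3 → k)).finrank_range_add_finrank_ker
  have h2 := Submodule.finrank_le (LinearMap.range (LinearMap.pi w : V →ₗ[k] (Fin 3 → k)))
  rw [finrank_fin_fun] at h2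
  have h3 : ¬ 3 ≤ finrank k ↥(zer w) := by
    intro h
    obtain ⟨x, hx, hne⟩ := no3 hT hV hsm h
    exact hne (hw x (mem_zer.1 hx))
  change _ + finrank k ↥(zer w) = _ at h1
  omega

omit [IsAlgClosed k] [CharZero k] [FiniteDimensional k V] in
theorem exists_frame {W : Submodule k V} (hW : finrank k ↥W = 2) :
    ∃ a b : V, a ∈ W ∧ b ∈ W ∧ LinearIndependent k ![a, b] ∧ (∀ x ∈ W, ∃ s t : k, x = s • a + t • b) ∧
      ∃ p q : Dual k V, p a = 1 ∧ p b = 0 ∧ q a = 0 ∧ q b = 1 := by
  have : FiniteDimensional k ↥W := FiniteDimensional.of_finrank_pos (by omega)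
  let β : Basis (Fin 2) k ↥W := finBasisOfFinrankEq k _ hW
  obtain ⟨C, hC⟩ := Submodule.exists_isCompl W
  let π : V →ₗ[k] ↥W := W.projectionOnto C hC
  have hπ : ∀ w : ↥W, π (w : V) = w := fun w => Submodule.projectionOnto_apply_left hC w
  refine ⟨β 0, β 1, (β 0).2, (β 1).2, ?_, ?_, (β.coord 0).comp π, (β.coord 1).comp π, ?_, ?_, ?_, ?_⟩
  · have e : ![((β 0 : ↥W) : V), ((β 1 : ↥W) : V)] = W.subtype ∘ β := by
      funext i
      fin_cases i <;> rfl
    rw [e]
    exact β.linearIndependent.map' W.subtype W.ker_subtype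
  · intro x hx
    have := β.sum_repr ⟨x, hx⟩
    rw [Fin.sum_univ_two] at this
    refine ⟨β.repr ⟨x, hx⟩ 0, β.repr ⟨x, hx⟩ 1, ?_⟩
    have h2 := congrArg (fun w : ↥W => (w : V)) this
    exact h2.symm
  all_goals simp [hπ]

omit [IsAlgClosed k] [CharZero k] [FiniteDimensional k V] in
/-- values on products with `h` -/
theorem val_h {Ψ : Dual k V →ₗ[k] Dual k V →ₗ[k] Dual k V →ₗ[k] k} (hΨ : IsSym3 Ψ) {h : Dual k V}
    {u : Fin 3 → Dual k V} (hD : ∀ i e, Ψ h (u i) e = 0) {a b : V} {p q : Dual k V}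
    (hab : ∀ x, (∀ i, u i x = 0) → ∃ s t : k, x = s • a + t • b)
    (pa : p a = 1) (pb : p b = 0) (qa : q a = 0) (qb : q b = 1) (e e' : Dual k V) :
    Ψ h e e' = e a * e' a * Ψ h p p + (e a * e' b + e b * e' a) * Ψ h p q + e b * e' b * Ψ h q q := by
  have key : ∀ e e', Ψ h e e' = e a * Ψ h p e' + e b * Ψ h q e' := by
    intro e e'
    have h1 : Ψ h (e - e a • p - e b • q) e' = 0 := by
      refine kill_h hD (fun x hx => ?_) e'
      obtain ⟨s, t, rfl⟩ := hab x hx
      simp only [LinearMap.sub_apply, LinearMap.smul_apply, map_add, map_smul, smul_eq_mul, pa, pb, qa, qb]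
      ring
    simp only [map_sub, map_smul, LinearMap.sub_apply, LinearMap.smul_apply, smul_eq_mul] at h1
    linear_combination h1
  have h2 : Ψ h p e' = e' a * Ψ h p p + e' b * Ψ h q p := by
    rw [hΨ.s23]; exact key e' p
  have h3 : Ψ h q e' = e' a * Ψ h p q + e' b * Ψ h q q := by
    rw [hΨ.s23]; exact key e' q
  rw [key, h2, h3, hΨ.s23 h q p]
  ring

/-- Two functionals: a nontrivial combination kills the products with `h`. -/
theorem exists_comb (hT : IsSym3 T) (hV : finrank k V = 5) (hsm : SmoothOn T ⊤)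
    (hf : ∀ x, T x x x = cub (u 2) u v c d x)
    {Ψ Ψ' : Dual k V →ₗ[k] Dual k V →ₗ[k] Dual k V →ₗ[k] k} (hΨ : IsSym3 Ψ) (hΨ' : IsSym3 Ψ')
    (H : Kill Ψ (Pi.single 2 1) (u 2) u v c d) (H' : Kill Ψ' (Pi.single 2 1) (u 2) u v c d) :
    ∃ α β : k, (α ≠ 0 ∨ β ≠ 0) ∧ ∀ e e', (α • Ψ + β • Ψ') (u 2) e e' = 0 := by
  have h2 : finrank k ↥(zer u) = 2 := finrank_zer hT hV hsm fun x hx => by
    rw [hf, cub, hx 2]; simp [hx]
  obtain ⟨a, b, ha, hb, hli, hab, p, q, pa, pb, qa, qb⟩ := exists_frame h2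
  have hab' : ∀ x, (∀ i, u i x = 0) → ∃ s t : k, x = s • a + t • b := fun x hx => hab x (mem_zer.2 hx)
  have ua := mem_zer.1 ha
  have ub := mem_zer.1 hb
  have main : ∀ {Φ : Dual k V →ₗ[k] Dual k V →ₗ[k] Dual k V →ₗ[k] k}, IsSym3 Φ →
      Kill Φ (Pi.single 2 1) (u 2) u v c d → ∀ i, dl v c i a * Φ (u 2) p p +
        (v (i + 1) a * c (i + 2) b + v (i + 1) b * c (i + 2) a -
          (v (i + 2) a * c (i + 1) b + v (i + 2) b * c (i + 1) a)) * Φ (u 2) p q + dl v c i b * Φ (u 2) q q = 0 := by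
    intro Φ hΦ HΦ i
    have h1 := HΦ.U i (u 2)
    rw [hΦ.rot' _ _ (u 2), hΦ.rot' _ _ (u 2), hΦ.rot' _ _ (u 2), HΦ.D] at h1
    have h3 : ∀ j, Φ (u j) (d j) (u 2) = 0 := fun j => by rw [hΦ.rot' _ _ (u 2), HΦ.D]
    simp only [h3, Finset.sum_const_zero, mul_zero, add_zero] at h1
    rw [val_h hΦ HΦ.D hab' pa pb qa qb (v (i + 1)), val_h hΦ HΦ.D hab' pa pb qa qb (v (i + 2))] at h1
    rw [dl, dl]
    linear_combination h1
  obtain ⟨e1, e2, e3⟩ := Quad.cross_zero (a := fun i => dl v c i a)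
    (b := fun i => v (i + 1) a * c (i + 2) b + v (i + 1) b * c (i + 2) a -
          (v (i + 2) a * c (i + 1) b + v (i + 2) b * c (i + 1) a)) (c := fun i => dl v c i b)
    (by
      intro s t hst
      have h0 : s • a + t • b = 0 := by
        refine S1 hT hsm hf (fun i => by rw [map_add, map_smul, map_smul, ua, ub, smul_zero, smul_zero, add_zero])
          fun i => ?_
        have := hst i
        simp only [dl, map_add, map_smul, smul_eq_mul] at this ⊢
        linear_combination this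
      have := LinearIndependent.pair_iff.1 hli s t h0
      exact this)
    (main hΨ H) (main hΨ' H')
  have fin : ∀ α β : k, α * Ψ (u 2) p p + β * Ψ' (u 2) p p = 0 → α * Ψ (u 2) p q + β * Ψ' (u 2) p q = 0 →
      α * Ψ (u 2) q q + β * Ψ' (u 2) q q = 0 → ∀ e e', (α • Ψ + β • Ψ') (u 2) e e' = 0 := by
    intro α β f1 f2 f3 e e'
    simp only [LinearMap.add_apply, LinearMap.smul_apply, smul_eq_mul]
    rw [val_h hΨ H.D hab' pa pb qa qb e, val_h hΨ' H'.D hab' pa pb qa qb e]
    linear_combination e a * e' a * f1 + (e a * e' b + e b * e' a) * f2 + e b * e' b * f3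
  by_cases z1 : Ψ (u 2) p p = 0
  · by_cases z2 : Ψ (u 2) p q = 0
    · by_cases z3 : Ψ (u 2) q q = 0
      · exact ⟨1, 0, Or.inl one_ne_zero, fin 1 0 (by rw [z1]; ring) (by rw [z2]; ring) (by rw [z3]; ring)⟩
      · exact ⟨Ψ' (u 2) q q, -Ψ (u 2) q q, Or.inr (neg_ne_zero.2 z3), fin _ _ (by linear_combination -e2)
          (by linear_combination e1) (by ring)⟩
    · exact ⟨Ψ' (u 2) p q, -Ψ (u 2) p q, Or.inr (neg_ne_zero.2 z2), fin _ _ (by linear_combination e3)
          (by ring) (by linear_combination -e1)⟩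
  · exact ⟨Ψ' (u 2) p p, -Ψ (u 2) p p, Or.inr (neg_ne_zero.2 z1), fin _ _ (by ring)
          (by linear_combination -e3) (by linear_combination e2)⟩

theorem no2 (hT : IsSym3 T) (hV : finrank k V = 5) (hsm : SmoothOn T ⊤) (a b : Dual k V) :
    ∃ x, a x = 0 ∧ b x = 0 ∧ T x x x ≠ 0 := by
  let φ : V →ₗ[k] (k × k) := a.prod b
  have h1 := φ.finrank_range_add_finrank_ker
  have h2 := Submodule.finrank_le (LinearMap.range φ)
  rw [finrank_prod, finrank_self] at h2
  obtain ⟨x, hx, hne⟩ := no3 hT hV hsm (W := LinearMap.ker φ) (by omega)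
  have hx' := LinearMap.mem_ker.1 hx
  exact ⟨x, congrArg Prod.fst hx', congrArg Prod.snd hx', hne⟩

theorem T_ww (hf : ∀ x, T x x x = cub (u 2) u v c d x) (x : V) (hx : ∀ j, ww u v c j x = 0) : T x x x = 0 := by
  have hu : u 2 x = 0 := hx 0
  have hv : v 2 x = 0 := hx 1
  have hc : c 2 x = 0 := hx 2
  rw [hf, cub]
  simp only [dl, Fin.sum_univ_three, Fin.reduceAdd, zero_add, hu, hv, hc]
  ring

theorem T_u (hf : ∀ x, T x x x = cub (u 2) u v c d x) (x : V) (hx : ∀ j, u j x = 0) : T x x x = 0 := by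
  rw [hf, cub, hx 2]; simp [hx]

theorem exists_u2 (hT : IsSym3 T) (hV : finrank k V = 5) (hsm : SmoothOn T ⊤)
    (hf : ∀ x, T x x x = cub (u 2) u v c d x) : ∃ y, u 2 y = 1 := by
  by_contra hcon
  push Not at hcon
  have h0 : ∀ x, u 2 x = 0 := by
    intro x
    by_contra hx
    exact hcon ((u 2 x)⁻¹ • x) (by rw [map_smul, smul_eq_mul, inv_mul_cancel₀ hx])
  obtain ⟨x, h1, h2, h3⟩ := no2 hT hV hsm (u 0) (u 1)
  exact h3 (T_u hf x fun j => by fin_cases j <;> [exact h1; exact h2; exact h0 x])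

theorem coord_comb (f : Basis (Fin 5) k V) {i j l : Fin 5} (h1 : i ≠ j) (h2 : i ≠ l) (s t : k) :
    f.coord i (s • f j + t • f l) = 0 := by
  simp [Finsupp.single_apply, h1.symm, h2.symm]

theorem comb_zero (hT : IsSym3 T) (hV : finrank k V = 5) (hsm : SmoothOn T ⊤)
    (hf : ∀ x, T x x x = cub (u 2) u v c d x)
    {Ψ : Dual k V →ₗ[k] Dual k V →ₗ[k] Dual k V →ₗ[k] k} (hΨ : IsSym3 Ψ)
    (H : Kill Ψ (Pi.single 2 1) (u 2) u v c d) (Hh : ∀ e e', Ψ (u 2) e e' = 0) : Ψ = 0 := by
  have h2 : finrank k ↥(zer u) = 2 := finrank_zer hT hV hsm (T_u hf)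
  have h2' : finrank k ↥(zer (ww u v c)) = 2 := finrank_zer hT hV hsm (T_ww hf)
  obtain ⟨f4, hf4⟩ := exists_u2 hT hV hsm hf
  have hne : zer u ≠ zer (ww u v c) := by
    intro he
    obtain ⟨a, b, ha, hb, hli, -⟩ := exists_frame h2
    obtain ⟨s, t, hst, hz⟩ := exists_quad_zero (dl v c 2 a)
      (v 0 a * c 1 b + v 0 b * c 1 a - (v 1 a * c 0 b + v 1 b * c 0 a)) (dl v c 2 b)
    have hx : s • a + t • b ∈ zer u := Submodule.add_mem _ (Submodule.smul_mem _ _ ha) (Submodule.smul_mem _ _ hb)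
    have hx' : s • a + t • b ∈ zer (ww u v c) := he ▸ hx
    have hv : v 2 (s • a + t • b) = 0 := mem_zer.1 hx' 1
    have hc : c 2 (s • a + t • b) = 0 := mem_zer.1 hx' 2
    have h0 : s • a + t • b = 0 := by
      refine S1 hT hsm hf (mem_zer.1 hx) fun i => ?_
      fin_cases i
      · change v 1 (s • a + t • b) * c 2 (s • a + t • b) - v 2 (s • a + t • b) * c 1 (s • a + t • b) = 0
        rw [hv, hc]; ring
      · change v 2 (s • a + t • b) * c 0 (s • a + t • b) - v 0 (s • a + t • b) * c 2 (s • a + t • b) = 0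
        rw [hv, hc]; ring
      · change v 0 (s • a + t • b) * c 1 (s • a + t • b) - v 1 (s • a + t • b) * c 0 (s • a + t • b) = 0
        simp only [dl, map_add, map_smul, smul_eq_mul, Fin.reduceAdd] at hz ⊢
        linear_combination hz
    have h1 := LinearIndependent.pair_iff.1 hli s t h0
    rcases hst with h | h
    · exact h h1.1
    · exact h h1.2
  by_cases hm : zer u ⊓ zer (ww u v c) = ⊥
  · -- skew
    obtain ⟨a, b, ha, hb, hli, hab, -⟩ := exists_frame h2
    obtain ⟨a', b', ha', hb', hli', hab', -⟩ := exists_frame h2'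
    have hg : LinearIndependent k ![a', b', a, b, f4] := by
      rw [Fintype.linearIndependent_iff]
      intro g hgs
      simp only [Fin.sum_univ_five, Matrix.cons_val] at hgs
      have e4 : g 4 = 0 := by
        have := congrArg (u 2) hgs
        simp only [map_add, map_smul, smul_eq_mul, map_zero, hf4, mem_zer.1 ha 2, mem_zer.1 hb 2,
          show u 2 a' = 0 from mem_zer.1 ha' 0, show u 2 b' = 0 from mem_zer.1 hb' 0] at this
        linear_combination this
      rw [e4, zero_smul, add_zero] at hgs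
      have m1 : g 0 • a' + g 1 • b' ∈ zer u ⊓ zer (ww u v c) := by
        refine ⟨?_, Submodule.add_mem _ (Submodule.smul_mem _ _ ha') (Submodule.smul_mem _ _ hb')⟩
        have : g 0 • a' + g 1 • b' = -(g 2 • a + g 3 • b) := by
          rw [eq_neg_iff_add_eq_zero, ← hgs]; abel
        rw [this]
        exact Submodule.neg_mem _ (Submodule.add_mem _ (Submodule.smul_mem _ _ ha) (Submodule.smul_mem _ _ hb))
      rw [hm, Submodule.mem_bot] at m1
      rw [m1, zero_add] at hgs
      have e1 := LinearIndependent.pair_iff.1 hli' _ _ m1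
      have e2 := LinearIndependent.pair_iff.1 hli _ _ hgs
      intro i
      fin_cases i
      · exact e1.1
      · exact e1.2
      · exact e2.1
      · exact e2.2
      · exact e4
    let f : Basis (Fin 5) k V := basisOfLinearIndependentOfCardEqFinrank hg (by simp [hV])
    have hfe : ⇑f = ![a', b', a, b, f4] := coe_basisOfLinearIndependentOfCardEqFinrank hg _
    have f0 : f 0 = a' := by rw [hfe]; rfl
    have f1 : f 1 = b' := by rw [hfe]; rfl
    have f2 : f 2 = a := by rw [hfe]; rfl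
    have f3 : f 3 = b := by rw [hfe]; rfl
    have f4' : f 4 = f4 := by rw [hfe]; rfl
    have cu : ∀ i : Fin 5, i ≠ 2 → i ≠ 3 → ∀ x, (∀ i, u i x = 0) → f.coord i x = 0 := by
      intro i h1 h2 x hx
      obtain ⟨s, t, rfl⟩ := hab x (mem_zer.2 hx)
      rw [← f2, ← f3]
      exact coord_comb f h1 h2 s t
    have cw : ∀ i : Fin 5, i ≠ 0 → i ≠ 1 → ∀ x, (∀ i, ww u v c i x = 0) → f.coord i x = 0 := by
      intro i h1 h2 x hx
      obtain ⟨s, t, rfl⟩ := hab' x (mem_zer.2 hx)
      rw [← f0, ← f1]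
      exact coord_comb f h1 h2 s t
    refine skew hΨ H Hh f (fun i => by rw [f2]; exact mem_zer.1 ha i) (fun i => by rw [f3]; exact mem_zer.1 hb i)
      (fun i => by rw [f0]; exact mem_zer.1 ha' i) (fun i => by rw [f1]; exact mem_zer.1 hb' i)
      (cu 0 (by decide) (by decide)) (cu 1 (by decide) (by decide)) (cw 2 (by decide) (by decide))
      (cw 3 (by decide) (by decide)) ?_ ?_ ?_
    · refine f.ext fun i => ?_
      rw [Basis.coord_apply, f.repr_self]
      fin_cases i
      · simp [f0, show u 2 a' = 0 from mem_zer.1 ha' 0]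
      · simp [f1, show u 2 b' = 0 from mem_zer.1 hb' 0]
      · simp [f2, mem_zer.1 ha 2]
      · simp [f3, mem_zer.1 hb 2]
      · simp [f4', hf4]
    · intro s t hst
      rw [f2, f3] at hst
      refine LinearIndependent.pair_iff.1 hli s t (S1 hT hsm hf (mem_zer.1 ?_) hst)
      exact Submodule.add_mem _ (Submodule.smul_mem _ _ ha) (Submodule.smul_mem _ _ hb)
    · intro s t e1 e2 e3
      rw [f0, f1] at e1 e2 e3
      refine LinearIndependent.pair_iff.1 hli' s t (S2 hT hsm hf (mem_zer.1 ?_) e1 e2 e3)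
      exact Submodule.add_mem _ (Submodule.smul_mem _ _ ha') (Submodule.smul_mem _ _ hb')
  · -- meeting
    obtain ⟨z, a, b, hli, hx, hy, -, -⟩ := exists_basis_of_meet h2 h2' hne hm
    have hz1 : z ∈ zer u := by rw [hx]; exact Submodule.subset_span (by simp)
    have ha : a ∈ zer u := by rw [hx]; exact Submodule.subset_span (by simp)
    have hz2 : z ∈ zer (ww u v c) := by rw [hy]; exact Submodule.subset_span (by simp)
    have hb : b ∈ zer (ww u v c) := by rw [hy]; exact Submodule.subset_span (by simp)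
    have u2b : u 2 b = 0 := mem_zer.1 hb 0
    obtain ⟨f0', hf0, hf0s⟩ : ∃ y, u 2 y = 0 ∧ y ∉ Submodule.span k (Set.range ![z, a, b]) := by
      by_contra hcon
      push Not at hcon
      have h3 : finrank k ↥(LinearMap.ker (u 2)) ≤ 3 := by
        have := Submodule.finrank_mono (s := LinearMap.ker (u 2)) (t := Submodule.span k (Set.range ![z, a, b]))
          fun y hy => hcon y hy
        rwa [finrank_span_eq_card hli, Fintype.card_fin] at this
      have h1 := (u 2).finrank_range_add_finrank_ker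
      have h2 := Submodule.finrank_le (LinearMap.range (u 2))
      rw [finrank_self] at h2
      omega
    have hg : LinearIndependent k ![f0', b, a, z, f4] := by
      rw [Fintype.linearIndependent_iff]
      intro g hgs
      simp only [Fin.sum_univ_five, Matrix.cons_val] at hgs
      have e4 : g 4 = 0 := by
        have := congrArg (u 2) hgs
        simp only [map_add, map_smul, smul_eq_mul, map_zero, hf4, mem_zer.1 ha 2, mem_zer.1 hz1 2, u2b, hf0] at this
        linear_combination this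
      rw [e4, zero_smul, add_zero] at hgs
      have m : ∀ s t r : k, s • z + t • a + r • b ∈ Submodule.span k (Set.range ![z, a, b]) := fun s t r =>
        Submodule.add_mem _ (Submodule.add_mem _ (Submodule.smul_mem _ _ (Submodule.subset_span ⟨0, rfl⟩))
          (Submodule.smul_mem _ _ (Submodule.subset_span ⟨1, rfl⟩)))
          (Submodule.smul_mem _ _ (Submodule.subset_span ⟨2, rfl⟩))
      have e0 : g 0 = 0 := by
        by_contra h0
        apply hf0s
        have : f0' = (-(g 0)⁻¹ * g 3) • z + (-(g 0)⁻¹ * g 2) • a + (-(g 0)⁻¹ * g 1) • b := by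
          have h3 : g 0 • f0' = -(g 1 • b + g 2 • a + g 3 • z) := by
            rw [eq_neg_iff_add_eq_zero, ← hgs]; abel
          have h4 : f0' = (g 0)⁻¹ • (g 0 • f0') := by rw [smul_smul, inv_mul_cancel₀ h0, one_smul]
          rw [h4, h3]
          module
        rw [this]
        exact m _ _ _
      rw [e0, zero_smul, zero_add] at hgs
      have e := Fintype.linearIndependent_iff.1 hli ![g 3, g 2, g 1] (by
        simp only [Fin.sum_univ_three, Matrix.cons_val]
        rw [← hgs]; abel)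
      intro i
      fin_cases i
      · exact e0
      · exact e 2
      · exact e 1
      · exact e 0
      · exact e4
    let f : Basis (Fin 5) k V := basisOfLinearIndependentOfCardEqFinrank hg (by simp [hV])
    have hfe : ⇑f = ![f0', b, a, z, f4] := coe_basisOfLinearIndependentOfCardEqFinrank hg _
    have f0 : f 0 = f0' := by rw [hfe]; rfl
    have f1 : f 1 = b := by rw [hfe]; rfl
    have f2 : f 2 = a := by rw [hfe]; rfl
    have f3 : f 3 = z := by rw [hfe]; rfl
    have f4' : f 4 = f4 := by rw [hfe]; rfl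
    have cu : ∀ i : Fin 5, i ≠ 3 → i ≠ 2 → ∀ x, (∀ i, u i x = 0) → f.coord i x = 0 := by
      intro i h1 h2 x hx'
      have h3 : x ∈ Submodule.span k {z, a} := hx ▸ mem_zer.2 hx'
      obtain ⟨s, t, rfl⟩ := Submodule.mem_span_pair.1 h3
      rw [← f2, ← f3]
      exact coord_comb f h1 h2 s t
    have cw : ∀ i : Fin 5, i ≠ 3 → i ≠ 1 → ∀ x, (∀ i, ww u v c i x = 0) → f.coord i x = 0 := by
      intro i h1 h2 x hx'
      have h3 : x ∈ Submodule.span k {z, b} := hy ▸ mem_zer.2 hx'
      obtain ⟨s, t, rfl⟩ := Submodule.mem_span_pair.1 h3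
      rw [← f1, ← f3]
      exact coord_comb f h1 h2 s t
    have hza : LinearIndependent k ![a, z] := by
      rw [LinearIndependent.pair_iff]
      intro s t hst
      have e := Fintype.linearIndependent_iff.1 hli ![t, s, 0] (by
        simp only [Fin.sum_univ_three, Matrix.cons_val, zero_smul, add_zero]
        rw [← hst]; abel)
      exact ⟨e 1, e 0⟩
    have hzb : LinearIndependent k ![b, z] := by
      rw [LinearIndependent.pair_iff]
      intro s t hst
      have e := Fintype.linearIndependent_iff.1 hli ![t, 0, s] (by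
        simp only [Fin.sum_univ_three, Matrix.cons_val, zero_smul, add_zero]
        rw [← hst]; abel)
      exact ⟨e 2, e 0⟩
    refine meet hΨ H Hh f (fun i => by rw [f2]; exact mem_zer.1 ha i) (fun i => by rw [f3]; exact mem_zer.1 hz1 i)
      (fun i => by rw [f1]; exact mem_zer.1 hb i) (fun i => by rw [f3]; exact mem_zer.1 hz2 i)
      (cu 0 (by decide) (by decide)) (cu 1 (by decide) (by decide)) (cw 0 (by decide) (by decide))
      (cw 2 (by decide) (by decide)) ?_ ?_ ?_
    · refine f.ext fun i => ?_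
      rw [Basis.coord_apply, f.repr_self]
      fin_cases i
      · simp [f0, hf0]
      · simp [f1, u2b]
      · simp [f2, mem_zer.1 ha 2]
      · simp [f3, mem_zer.1 hz1 2]
      · simp [f4', hf4]
    · intro s t hst
      rw [f2, f3] at hst
      refine LinearIndependent.pair_iff.1 hza s t (S1 hT hsm hf (mem_zer.1 ?_) hst)
      exact Submodule.add_mem _ (Submodule.smul_mem _ _ ha) (Submodule.smul_mem _ _ hz1)
    · intro s t e1 e2 e3
      rw [f1, f3] at e1 e2 e3
      refine LinearIndependent.pair_iff.1 hzb s t (S2 hT hsm hf (mem_zer.1 ?_) e1 e2 e3)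
      exact Submodule.add_mem _ (Submodule.smul_mem _ _ hb) (Submodule.smul_mem _ _ hz2)

/-- The image of the differential has corank at most one (`p = e₂`). -/
theorem core (hT : IsSym3 T) (hV : finrank k V = 5) (hsm : SmoothOn T ⊤)
    (hf : ∀ x, T x x x = cub (u 2) u v c d x)
    {Ψ Ψ' : Dual k V →ₗ[k] Dual k V →ₗ[k] Dual k V →ₗ[k] k} (hΨ : IsSym3 Ψ) (hΨ' : IsSym3 Ψ')
    (H : Kill Ψ (Pi.single 2 1) (u 2) u v c d) (H' : Kill Ψ' (Pi.single 2 1) (u 2) u v c d) :
    ∃ α β : k, (α ≠ 0 ∨ β ≠ 0) ∧ α • Ψ + β • Ψ' = 0 := by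
  obtain ⟨α, β, hαβ, h⟩ := exists_comb hT hV hsm hf hΨ hΨ' H H'
  refine ⟨α, β, hαβ, comb_zero hT hV hsm hf ⟨fun x y z => ?_, fun x y z => ?_⟩ (H.comb H' α β) h⟩
  · simp only [LinearMap.add_apply, LinearMap.smul_apply, hΨ.s12 x y z, hΨ'.s12 x y z]
  · simp only [LinearMap.add_apply, LinearMap.smul_apply, hΨ.s23 x y z, hΨ'.s23 x y z]

end Planes

end K972.Bad
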