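import Groth.Agent.Fano.K972.Gauge
import Groth.Agent.Fano.K713.PPDef
import Mathlib.Data.Sym.Card
import Mathlib.Algebra.MvPolynomial.Funext

/-!
# The differential at a point of the bad part has rank at least 34
-/

set_option autoImplicit false

universe u

namespace K972.BadRank

open K656.Trilin Module K714.Surf K972.Core K713.PP MvPolynomial

variable {k : Type u} [Field k]

/-- functions on `k^5` -/
abbrev A (k : Type u) [Field k] : Type u := (Fin 5 → k) → k

section Mono

/-- cubic monomials as functions -/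
def mono (k : Type u) [Field k] (s : Sym (Fin 5) 3) : A k := fun x => ((s : Multiset (Fin 5)).map x).prod

theorem exists_mono (a b c : Fin 5) : ∃ s : Sym (Fin 5) 3, ∀ x : Fin 5 → k, mono k s x = x a * x b * x c := by
  refine ⟨⟨{a, b, c}, rfl⟩, fun x => ?_⟩
  simp [mono, mul_assoc]

theorem mono_eq (s : Sym (Fin 5) 3) : ∃ a b c : Fin 5, ∀ x : Fin 5 → k, mono k s x = x a * x b * x c := by
  obtain ⟨a, b, c, h⟩ := Multiset.card_eq_three.1 s.2
  refine ⟨a, b, c, fun x => ?_⟩
  simp only [mono]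
  rw [show (s : Multiset (Fin 5)) = {a, b, c} from h]
  simp [mul_assoc]

/-- evaluation of polynomials as functions -/
noncomputable def ev (k : Type u) [Field k] : MvPolynomial (Fin 5) k →ₗ[k] A k :=
  LinearMap.pi fun x => (aeval x : MvPolynomial (Fin 5) k →ₐ[k] k).toLinearMap

theorem ev_apply (P : MvPolynomial (Fin 5) k) (x : Fin 5 → k) : ev k P x = eval x P := by
  change aeval x P = eval x P
  rw [aeval_eq_eval]

theorem ev_injective [Infinite k] : Function.Injective (ev k) := by
  intro P Q h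
  refine MvPolynomial.funext fun x => ?_
  rw [← ev_apply, ← ev_apply, h]

theorem mono_eq_ev (s : Sym (Fin 5) 3) :
    mono k s = ev k (monomial (Multiset.toFinsupp (s : Multiset (Fin 5))) 1) := by
  funext x
  rw [ev_apply, eval_monomial, one_mul, mono, Finset.prod_multiset_map_count, Finsupp.prod, Multiset.toFinsupp_support]
  simp only [Multiset.toFinsupp_apply]

theorem linearIndependent_mono [Infinite k] : LinearIndependent k (mono k) := by
  have h1 : LinearIndependent k (fun s : Sym (Fin 5) 3 =>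
      (monomial (Multiset.toFinsupp (s : Multiset (Fin 5))) 1 : MvPolynomial (Fin 5) k)) := by
    have h2 := (basisMonomials (Fin 5) k).linearIndependent.comp
      (fun s : Sym (Fin 5) 3 => Multiset.toFinsupp (s : Multiset (Fin 5)))
      (fun s t h => Subtype.ext (Multiset.toFinsupp.injective h))
    simpa only [coe_basisMonomials, Function.comp_def] using h2
  have h3 := h1.map' (ev k) (LinearMap.ker_eq_bot.2 ev_injective)
  have h4 : mono k = ev k ∘ fun s : Sym (Fin 5) 3 =>
      (monomial (Multiset.toFinsupp (s : Multiset (Fin 5))) 1 : MvPolynomial (Fin 5) k) := by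
    funext s
    exact mono_eq_ev s
  rw [h4]
  exact h3

/-- the space of cubic forms -/
noncomputable def M35 (k : Type u) [Field k] : Submodule k (A k) := Submodule.span k (Set.range (mono k))

theorem finrank_M35 [Infinite k] : finrank k ↥(M35 k) = 35 := by
  rw [M35, finrank_span_eq_card linearIndependent_mono, Sym.card_sym_eq_multichoose, Fintype.card_fin,
    Nat.multichoose_eq]
  rfl

instance : FiniteDimensional k ↥(M35 k) := FiniteDimensional.span_of_finite k (Set.finite_range _)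

theorem coord_sum (x : Fin 5 → k) (e : E k) : e x = ∑ i, e (Pi.single i 1) * x i := by
  conv_lhs => rw [← Finset.univ_sum_single x]
  rw [map_sum]
  refine Finset.sum_congr rfl fun i _ => ?_
  have : (Pi.single i (x i) : Fin 5 → k) = x i • Pi.single i 1 := by
    rw [← Pi.single_smul, smul_eq_mul, mul_one]
  rw [this, map_smul, smul_eq_mul, mul_comm]

theorem xyz_mem (a b c : Fin 5) : (fun x : Fin 5 → k => x a * x b * x c) ∈ M35 k := by
  obtain ⟨s, hs⟩ := exists_mono (k := k) a b c
  have : (fun x : Fin 5 → k => x a * x b * x c) = mono k s := by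
    funext x; exact (hs x).symm
  rw [this]
  exact Submodule.subset_span ⟨s, rfl⟩

theorem mem_M35 (e e' e'' : E k) : (fun x => e x * e' x * e'' x) ∈ M35 k := by
  have : (fun x => e x * e' x * e'' x) = ∑ i, ∑ j, ∑ l,
      (e (Pi.single i 1) * e' (Pi.single j 1) * e'' (Pi.single l 1)) • fun x : Fin 5 → k => x i * x j * x l := by
    funext x
    rw [coord_sum x e, coord_sum x e', coord_sum x e'']
    simp only [Finset.sum_apply, Pi.smul_apply, smul_eq_mul]
    rw [Finset.sum_mul, Finset.sum_mul]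
    refine Finset.sum_congr rfl fun i _ => ?_
    rw [Finset.mul_sum Finset.univ (fun j => e' (Pi.single j 1) * x j), Finset.sum_mul]
    refine Finset.sum_congr rfl fun j _ => ?_
    rw [Finset.mul_sum]
    refine Finset.sum_congr rfl fun l _ => by ring
  rw [this]
  exact Submodule.sum_mem _ fun i _ => Submodule.sum_mem _ fun j _ => Submodule.sum_mem _ fun l _ =>
    Submodule.smul_mem _ _ (xyz_mem i j l)

theorem T_mem (T : (Fin 5 → k) →ₗ[k] (Fin 5 → k) →ₗ[k] (Fin 5 → k) →ₗ[k] k) :
    (fun x => T x x x) ∈ M35 k := by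
  have : (fun x => T x x x) = ∑ i, ∑ j, ∑ l,
      (T (Pi.single i 1) (Pi.single j 1) (Pi.single l 1)) • fun x : Fin 5 → k => x i * x j * x l := by
    funext x
    rw [K714.Frames.T_expand]
    simp only [Finset.sum_apply, Pi.smul_apply, smul_eq_mul]
  rw [this]
  exact Submodule.sum_mem _ fun i _ => Submodule.sum_mem _ fun j _ => Submodule.sum_mem _ fun l _ =>
    Submodule.smul_mem _ _ (xyz_mem i j l)

end Mono

section Psi

/-- linear forms as functions -/
def inc (k : Type u) [Field k] : E k →ₗ[k] A k where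
  toFun e := fun x => e x
  map_add' _ _ := rfl
  map_smul' _ _ := rfl

/-- the trilinear form of a functional -/
noncomputable def Psi (φ : A k →ₗ[k] k) : E k →ₗ[k] E k →ₗ[k] E k →ₗ[k] k :=
  ((LinearMap.mul k (A k)).compl₁₂ (inc k) (inc k)).compr₂ (((LinearMap.mul k (A k)).compr₂ φ).compl₂ (inc k))

theorem Psi_apply (φ : A k →ₗ[k] k) (e e' e'' : E k) : Psi φ e e' e'' = φ (fun x => e x * e' x * e'' x) := rfl

theorem isSym3_Psi (φ : A k →ₗ[k] k) : IsSym3 (Psi φ) where
  s12 e e' e'' := by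
    rw [Psi_apply, Psi_apply]
    congr 1
    funext x
    ring
  s23 e e' e'' := by
    rw [Psi_apply, Psi_apply]
    congr 1
    funext x
    ring

end Psi

section Diff

/-- parameters of the bad part -/
abbrev W63 (k : Type u) [Field k] : Type u :=
  (Fin 3 → k) × (Fin 3 → E k) × (Fin 3 → E k) × (Fin 3 → E k) × (Fin 3 → E k)

/-- the cubic form of a parameter -/
def cubW (w : W63 k) (x : Fin 5 → k) : k :=
  cub (∑ i, w.1 i • w.2.1 i) w.2.1 w.2.2.1 w.2.2.2.1 w.2.2.2.2 x

/-- the differential -/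
def dcub (w : W63 k) : W63 k →ₗ[k] A k where
  toFun δ := fun x => (∑ i, (δ.1 i * w.2.1 i x + w.1 i * δ.2.1 i x)) * (∑ i, w.2.1 i x * w.2.2.2.2 i x) +
    (∑ i, w.1 i * w.2.1 i x) * (∑ i, (δ.2.1 i x * w.2.2.2.2 i x + w.2.1 i x * δ.2.2.2.2 i x)) +
    ∑ i, (δ.2.1 i x * dl w.2.2.1 w.2.2.2.1 i x + w.2.1 i x *
      (δ.2.2.1 (i + 1) x * w.2.2.2.1 (i + 2) x + w.2.2.1 (i + 1) x * δ.2.2.2.1 (i + 2) x -
        δ.2.2.1 (i + 2) x * w.2.2.2.1 (i + 1) x - w.2.2.1 (i + 2) x * δ.2.2.2.1 (i + 1) x))
  map_add' δ δ' := by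
    funext x
    simp only [Fin.sum_univ_three, Prod.fst_add, Prod.snd_add, Pi.add_apply, LinearMap.add_apply]
    ring
  map_smul' r δ := by
    funext x
    simp only [Fin.sum_univ_three, Prod.smul_fst, Prod.smul_snd, Pi.smul_apply, LinearMap.smul_apply, smul_eq_mul,
      RingHom.id_apply]
    ring

theorem dcub_apply (w δ : W63 k) (x : Fin 5 → k) : dcub w δ x =
    (∑ i, (δ.1 i * w.2.1 i x + w.1 i * δ.2.1 i x)) * (∑ i, w.2.1 i x * w.2.2.2.2 i x) +
    (∑ i, w.1 i * w.2.1 i x) * (∑ i, (δ.2.1 i x * w.2.2.2.2 i x + w.2.1 i x * δ.2.2.2.2 i x)) +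
    ∑ i, (δ.2.1 i x * dl w.2.2.1 w.2.2.2.1 i x + w.2.1 i x *
      (δ.2.2.1 (i + 1) x * w.2.2.2.1 (i + 2) x + w.2.2.1 (i + 1) x * δ.2.2.2.1 (i + 2) x -
        δ.2.2.1 (i + 2) x * w.2.2.2.1 (i + 1) x - w.2.2.1 (i + 2) x * δ.2.2.2.1 (i + 1) x)) := rfl

theorem taylor (w δ : W63 k) (x : Fin 5 → k) :
    ∃ q : Polynomial k, ∀ τ : k, cubW (w + τ • δ) x = cubW w x + τ * dcub w δ x + τ ^ 2 * q.eval τ := by
  obtain ⟨p, u, v, c, d⟩ := w
  obtain ⟨p', u', v', c', d'⟩ := δ
  refine ⟨Polynomial.C ((∑ i, p i * u i x) * (∑ i, u' i x * d' i x) +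
      (∑ i, (p' i * u i x + p i * u' i x)) * (∑ i, (u' i x * d i x + u i x * d' i x)) +
      (∑ i, p' i * u' i x) * (∑ i, u i x * d i x) +
      ∑ i, (u i x * dl v' c' i x + u' i x * (v' (i + 1) x * c (i + 2) x + v (i + 1) x * c' (i + 2) x -
        v' (i + 2) x * c (i + 1) x - v (i + 2) x * c' (i + 1) x))) +
    Polynomial.X * Polynomial.C ((∑ i, (p' i * u i x + p i * u' i x)) * (∑ i, u' i x * d' i x) +
      (∑ i, p' i * u' i x) * (∑ i, (u' i x * d i x + u i x * d' i x)) + ∑ i, u' i x * dl v' c' i x) +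
    Polynomial.X ^ 2 * Polynomial.C ((∑ i, p' i * u' i x) * (∑ i, u' i x * d' i x)), fun τ => ?_⟩
  simp only [cubW, dcub_apply, cub, dl, Fin.sum_univ_three, Prod.smul_mk, Prod.mk_add_mk, Pi.add_apply, Pi.smul_apply,
    LinearMap.add_apply, LinearMap.smul_apply, smul_eq_mul, Polynomial.eval_add, Polynomial.eval_mul,
    Polynomial.eval_C, Polynomial.eval_X, Polynomial.eval_pow, Fin.reduceAdd, zero_add]
  ring

theorem kill_of_range {w : W63 k} {φ : A k →ₗ[k] k} (hφ : ∀ δ, φ (dcub w δ) = 0) :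
    Kill (Psi φ) w.1 (∑ i, w.1 i • w.2.1 i) w.2.1 w.2.2.1 w.2.2.2.1 w.2.2.2.2 := by
  obtain ⟨p, u, v, c, d⟩ := w
  have hC : ∀ m e, Psi φ (u (m + 1)) (v (m + 2)) e = Psi φ (u (m + 2)) (v (m + 1)) e := by
    intro m e
    have h := hφ (0, 0, 0, Pi.single m e, 0)
    rw [← sub_eq_zero, Psi_apply, Psi_apply, ← map_sub, ← h]
    congr 1
    funext x
    rw [dcub_apply]
    fin_cases m <;> simp [Fin.sum_univ_three, dl] <;> ring
  have hV : ∀ m e, Psi φ (c (m + 1)) (u (m + 2)) e = Psi φ (c (m + 2)) (u (m + 1)) e := by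
    intro m e
    have h := hφ (0, 0, Pi.single m e, 0, 0)
    rw [← sub_eq_zero, Psi_apply, Psi_apply, ← map_sub, ← h]
    congr 1
    funext x
    rw [dcub_apply]
    fin_cases m <;> simp [Fin.sum_univ_three, dl] <;> ring
  refine ⟨?_, ?_, ?_, ?_⟩
  · intro i e
    have h := hφ (0, 0, 0, 0, Pi.single i e)
    rw [Psi_apply, ← h]
    congr 1
    funext x
    rw [dcub_apply]
    fin_cases i <;> simp [Fin.sum_univ_three, dl] <;> ring
  · intro i j e
    fin_cases i <;> fin_cases j
    · rfl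
    · exact hC 2 e
    · exact (hC 1 e).symm
    · exact (hC 2 e).symm
    · rfl
    · exact hC 0 e
    · exact hC 1 e
    · exact (hC 0 e).symm
    · rfl
  · intro i j e
    fin_cases i <;> fin_cases j
    · rfl
    · exact hV 2 e
    · exact (hV 1 e).symm
    · exact (hV 2 e).symm
    · rfl
    · exact hV 0 e
    · exact hV 1 e
    · exact (hV 0 e).symm
    · rfl
  · intro i e
    have h := hφ (0, Pi.single i e, 0, 0, 0)
    simp only [Psi_apply]
    rw [← map_sub, ← map_add, ← map_sum, ← smul_eq_mul, ← map_smul, ← map_add, ← h]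
    congr 1
    funext x
    rw [dcub_apply]
    fin_cases i <;> simp [Fin.sum_univ_three, dl] <;> ring

theorem le_finrank [IsAlgClosed k] [CharZero k] {T : (Fin 5 → k) →ₗ[k] (Fin 5 → k) →ₗ[k] (Fin 5 → k) →ₗ[k] k}
    (hT : IsSym3 T) (hsm : SmoothOn T ⊤) {w : W63 k} (hw : ∀ x, T x x x = cubW w x) :
    34 ≤ finrank k ↥(LinearMap.range (dcub w)) := by
  have : Infinite k := IsAlgClosed.instInfinite
  by_contra hlt
  push Not at hlt
  set R := LinearMap.range (dcub w) with hR
  let π : ↥(M35 k) →ₗ[k] (A k ⧸ R) := R.mkQ.comp (M35 k).subtype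
  have h1 := π.finrank_range_add_finrank_ker
  rw [finrank_M35] at h1
  have h2 : finrank k ↥(LinearMap.ker π) ≤ finrank k ↥R := by
    have hmem : ∀ m : ↥(LinearMap.ker π), ((m : ↥(M35 k)) : A k) ∈ R := by
      intro m
      have := LinearMap.mem_ker.1 m.2
      rwa [LinearMap.comp_apply, Submodule.mkQ_apply, Submodule.Quotient.mk_eq_zero] at this
    let f : ↥(LinearMap.ker π) →ₗ[k] ↥R :=
      ((M35 k).subtype.comp (LinearMap.ker π).subtype).codRestrict R hmem
    refine LinearMap.finrank_le_finrank_of_injective (f := f) fun a b hab => ?_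
    exact Subtype.ext (Subtype.ext (congrArg (fun z : ↥R => (z : A k)) hab))
  have h3 : 1 < finrank k ↥(LinearMap.range π) := by omega
  have : Nontrivial ↥(LinearMap.range π) := Module.nontrivial_of_finrank_pos (by omega : 0 < finrank k ↥(LinearMap.range π))
  obtain ⟨q1, hq1⟩ := exists_ne (0 : ↥(LinearMap.range π))
  obtain ⟨q2, hq⟩ := exists_linearIndependent_pair_of_one_lt_finrank h3 hq1
  obtain ⟨⟨f1, hf1⟩, hf1'⟩ := q1.2
  obtain ⟨⟨f2, hf2⟩, hf2'⟩ := q2.2
  -- functionals
  have hq' : LinearIndependent k ![((q1 : ↥(LinearMap.range π)) : A k ⧸ R), ((q2 : ↥(LinearMap.range π)) : A k ⧸ R)] := by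
    have e : ![((q1 : ↥(LinearMap.range π)) : A k ⧸ R), ((q2 : ↥(LinearMap.range π)) : A k ⧸ R)] =
        (LinearMap.range π).subtype ∘ ![q1, q2] := by
      funext i
      fin_cases i <;> rfl
    rw [e]
    exact hq.map' _ (Submodule.ker_subtype _)
  obtain ⟨r, hr⟩ := LinearMap.exists_leftInverse_of_injective (Fintype.linearCombination k
    ![((q1 : ↥(LinearMap.range π)) : A k ⧸ R), ((q2 : ↥(LinearMap.range π)) : A k ⧸ R)]) (by
      rw [LinearMap.ker_eq_bot]
      exact linearIndependent_iff_injective_fintypeLinearCombination.1 hq')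
  have hr1 : r (q1 : A k ⧸ R) = Pi.single 0 1 := by
    have := LinearMap.congr_fun hr (Pi.single 0 1)
    simpa [Fintype.linearCombination_apply_single] using this
  have hr2 : r (q2 : A k ⧸ R) = Pi.single 1 1 := by
    have := LinearMap.congr_fun hr (Pi.single 1 1)
    simpa [Fintype.linearCombination_apply_single] using this
  let φ : Fin 2 → A k →ₗ[k] k := fun i => (LinearMap.proj i).comp (r.comp R.mkQ)
  have hφ : ∀ i δ, φ i (dcub w δ) = 0 := by
    intro i δ
    have : R.mkQ (dcub w δ) = 0 := by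
      rw [Submodule.mkQ_apply, Submodule.Quotient.mk_eq_zero]
      exact ⟨δ, rfl⟩
    simp only [φ, LinearMap.comp_apply, this, map_zero]
  obtain ⟨α, β, hαβ, hz⟩ := K972.Gauge.core_p hT (by simp) hsm rfl hw (isSym3_Psi (φ 0)) (isSym3_Psi (φ 1))
    (kill_of_range (hφ 0)) (kill_of_range (hφ 1))
  have hM : ∀ m ∈ M35 k, α * φ 0 m + β * φ 1 m = 0 := by
    intro m hm
    induction hm using Submodule.span_induction with
    | mem m hm =>
      obtain ⟨s, rfl⟩ := hm
      obtain ⟨a, b, c, hs⟩ := mono_eq (k := k) s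
      have h4 := LinearMap.congr_fun (LinearMap.congr_fun (LinearMap.congr_fun hz
        (LinearMap.proj a)) (LinearMap.proj b)) (LinearMap.proj c)
      have h5 : mono k s = fun x => (LinearMap.proj a : E k) x * (LinearMap.proj b : E k) x *
          (LinearMap.proj c : E k) x := by
        funext x
        exact hs x
      rw [h5]
      exact h4
    | zero => simp
    | add a b _ _ ha hb => rw [map_add, map_add]; linear_combination ha + hb
    | smul t a _ ha => rw [map_smul, map_smul, smul_eq_mul, smul_eq_mul]; linear_combination t * ha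
  have e1 : R.mkQ f1 = (q1 : A k ⧸ R) := hf1'
  have e2 : R.mkQ f2 = (q2 : A k ⧸ R) := hf2'
  have g1 := hM f1 hf1
  have g2 := hM f2 hf2
  simp only [φ, LinearMap.comp_apply, e1, e2, hr1, hr2, LinearMap.proj_apply, Pi.single_apply] at g1 g2
  simp at g1 g2
  rcases hαβ with h | h
  · exact h g1
  · exact h g2

end Diff

end K972.BadRank
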