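import Groth.Agent.Fano.K972.Quad

/-!
# The linear algebra of the bad part of the Pfaffian locus

`f = u₂ (u · d) + det (u, v, c)`; a symmetric trilinear form `Ψ` on the space of linear forms killing the image of
the differential.
-/

set_option autoImplicit false

universe u v w

namespace K972.Core

open K656.Trilin Module

variable {k : Type u} [Field k] {V : Type v} [AddCommGroup V] [Module k V]

/-- the cofactors of the first row -/
def dl (v c : Fin 3 → Dual k V) (i : Fin 3) (x : V) : k :=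
  v (i + 1) x * c (i + 2) x - v (i + 2) x * c (i + 1) x

/-- the cubic form `h (u · d) + det (u, v, c)` -/
def cub (h : Dual k V) (u v c d : Fin 3 → Dual k V) (x : V) : k :=
  h x * ∑ i, u i x * d i x + ∑ i, u i x * dl v c i x

/-- `Ψ` kills the image of the differential of `(p, u, v, c, d) ↦ (p · u) (u · d) + det (u, v, c)` (`h = p · u`). -/
structure Kill (Ψ : Dual k V →ₗ[k] Dual k V →ₗ[k] Dual k V →ₗ[k] k) (p : Fin 3 → k) (h : Dual k V)
    (u v c d : Fin 3 → Dual k V) : Prop where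
  D : ∀ i e, Ψ h (u i) e = 0
  C : ∀ i j e, Ψ (u i) (v j) e = Ψ (u j) (v i) e
  V : ∀ i j e, Ψ (c i) (u j) e = Ψ (c j) (u i) e
  U : ∀ i e, Ψ (v (i + 1)) (c (i + 2)) e - Ψ (v (i + 2)) (c (i + 1)) e + Ψ h (d i) e +
    p i * ∑ j, Ψ (u j) (d j) e = 0

theorem Kill.comb {Ψ Ψ' : Dual k V →ₗ[k] Dual k V →ₗ[k] Dual k V →ₗ[k] k} {p : Fin 3 → k} {h : Dual k V}
    {u v c d : Fin 3 → Dual k V} (H : Kill Ψ p h u v c d) (H' : Kill Ψ' p h u v c d) (α β : k) :
    Kill (α • Ψ + β • Ψ') p h u v c d where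
  D i e := by simp [H.D i e, H'.D i e]
  C i j e := by simp [H.C i j e, H'.C i j e]
  V i j e := by simp [H.V i j e, H'.V i j e]
  U i e := by
    simp only [LinearMap.add_apply, LinearMap.smul_apply, smul_eq_mul, Finset.sum_add_distrib, ← Finset.mul_sum]
    linear_combination α * H.U i e + β * H'.U i e

variable {Ψ : Dual k V →ₗ[k] Dual k V →ₗ[k] Dual k V →ₗ[k] k} {u v c d : Fin 3 → Dual k V}

section Basis

variable (f : Basis (Fin 5) k V)

theorem expand (e : Dual k V) : e = ∑ j, e (f j) • f.coord j := by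
  rw [f.sum_dual_apply_smul_coord]

theorem expand3 (a e e' : Dual k V) : Ψ a e e' = ∑ j, e (f j) * Ψ a (f.coord j) e' := by
  conv_lhs => rw [expand f e]
  simp only [map_sum, LinearMap.sum_apply, map_smul, LinearMap.smul_apply, smul_eq_mul]

theorem zero_of_coord (h : ∀ j e e', Ψ (f.coord j) e e' = 0) : Ψ = 0 := by
  refine LinearMap.ext fun e => LinearMap.ext fun e' => LinearMap.ext fun e'' => ?_
  conv_lhs => rw [expand f e]
  simp only [map_sum, LinearMap.sum_apply, map_smul, LinearMap.smul_apply, h, smul_zero, Finset.sum_const_zero,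
    LinearMap.zero_apply]

theorem pair (hΨ : IsSym3 Ψ) {i j : Fin 5} (hij : i ≠ j) {a : Dual k V}
    (hz : ∀ l, l ≠ i → l ≠ j → ∀ e, Ψ a (f.coord l) e = 0) (e e' : Dual k V) :
    Ψ a e e' = e (f i) * e' (f i) * Ψ a (f.coord i) (f.coord i) +
      (e (f i) * e' (f j) + e (f j) * e' (f i)) * Ψ a (f.coord i) (f.coord j) +
      e (f j) * e' (f j) * Ψ a (f.coord j) (f.coord j) := by
  have h : ∀ e e', Ψ a e e' = e (f i) * Ψ a (f.coord i) e' + e (f j) * Ψ a (f.coord j) e' := by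
    intro e e'
    rw [expand3 f, Fintype.sum_eq_add i j hij]
    rintro l ⟨h1, h2⟩
    rw [hz l h1 h2, mul_zero]
  have h1 : Ψ a (f.coord i) e' = e' (f i) * Ψ a (f.coord i) (f.coord i) + e' (f j) * Ψ a (f.coord j) (f.coord i) := by
    rw [hΨ.s23]
    exact h e' _
  have h2 : Ψ a (f.coord j) e' = e' (f i) * Ψ a (f.coord i) (f.coord j) + e' (f j) * Ψ a (f.coord j) (f.coord j) := by
    rw [hΨ.s23]
    exact h e' _
  rw [h e e', h1, h2, hΨ.s23 a (f.coord j) (f.coord i)]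
  ring

end Basis

/-- a linear form vanishing on the common zeros of three linear forms is a combination of them -/
theorem exists_comb (u : Fin 3 → Dual k V) {e : Dual k V} (he : ∀ x, (∀ i, u i x = 0) → e x = 0) :
    ∃ a : Fin 3 → k, e = ∑ i, a i • u i := by
  have h : e ∈ Submodule.span k (Set.range u) := by
    refine mem_span_of_iInf_ker_le_ker fun x hx => he x fun i => ?_
    exact (Submodule.mem_iInf _).1 hx i
  obtain ⟨a, ha⟩ := (Submodule.mem_span_range_iff_exists_fun k).1 h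
  exact ⟨a, ha.symm⟩

/-- products of a form vanishing on `ℓ' = {u = 0}` with `h` are killed -/
theorem kill_h {h : Dual k V} (hD : ∀ i e, Ψ h (u i) e = 0) {a : Dual k V} (ha : ∀ x, (∀ i, u i x = 0) → a x = 0)
    (e : Dual k V) : Ψ h a e = 0 := by
  obtain ⟨α, rfl⟩ := exists_comb u ha
  simp only [map_sum, LinearMap.sum_apply, map_smul, LinearMap.smul_apply, hD, smul_zero, Finset.sum_const_zero]

/-- products of a form vanishing on `ℓ' = {u = 0}` and a form vanishing on `ℓ'' = {w = 0}` are killed -/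
theorem kill_mul {w : Fin 3 → Dual k V} (hD : ∀ i j e, Ψ (u i) (w j) e = 0) {a b : Dual k V}
    (ha : ∀ x, (∀ i, u i x = 0) → a x = 0) (hb : ∀ x, (∀ i, w i x = 0) → b x = 0)
    (e : Dual k V) : Ψ a b e = 0 := by
  obtain ⟨α, rfl⟩ := exists_comb u ha
  obtain ⟨β, rfl⟩ := exists_comb w hb
  simp only [map_sum, LinearMap.sum_apply, map_smul, LinearMap.smul_apply, hD, smul_zero, Finset.sum_const_zero]

/-- the third row of linear forms: `ℓ'' = {u₂ = v₂ = c₂ = 0}` -/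
def ww (u v c : Fin 3 → Dual k V) : Fin 3 → Dual k V := ![u 2, v 2, c 2]

theorem kill_ww (hΨ : IsSym3 Ψ) (H : Kill Ψ (Pi.single 2 1) (u 2) u v c d) (Hh : ∀ e e', Ψ (u 2) e e' = 0) :
    ∀ i j e, Ψ (u i) (ww u v c j) e = 0 := by
  intro i j e
  fin_cases j
  · change Ψ (u i) (u 2) e = 0
    rw [hΨ.s12, Hh]
  · change Ψ (u i) (v 2) e = 0
    rw [H.C, Hh]
  · change Ψ (u i) (c 2) e = 0
    rw [hΨ.s12, H.V, hΨ.s12, Hh]

section Skew

variable [IsAlgClosed k]

/-- The skew case. -/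
theorem skew (hΨ : IsSym3 Ψ) (H : Kill Ψ (Pi.single 2 1) (u 2) u v c d) (Hh : ∀ e e', Ψ (u 2) e e' = 0)
    (f : Basis (Fin 5) k V) (h2 : ∀ i, u i (f 2) = 0) (h3 : ∀ i, u i (f 3) = 0)
    (h0 : ∀ j, ww u v c j (f 0) = 0) (h1 : ∀ j, ww u v c j (f 1) = 0)
    (hc0 : ∀ x, (∀ i, u i x = 0) → f.coord 0 x = 0) (hc1 : ∀ x, (∀ i, u i x = 0) → f.coord 1 x = 0)
    (hc2 : ∀ x, (∀ i, ww u v c i x = 0) → f.coord 2 x = 0) (hc3 : ∀ x, (∀ i, ww u v c i x = 0) → f.coord 3 x = 0)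
    (h4 : u 2 = f.coord 4)
    (S1 : ∀ s t : k, (∀ i, dl v c i (s • f 2 + t • f 3) = 0) → s = 0 ∧ t = 0)
    (S2 : ∀ s t : k, u 0 (s • f 0 + t • f 1) * v 1 (s • f 0 + t • f 1) -
        u 1 (s • f 0 + t • f 1) * v 0 (s • f 0 + t • f 1) = 0 →
      c 0 (s • f 0 + t • f 1) * u 1 (s • f 0 + t • f 1) -
        c 1 (s • f 0 + t • f 1) * u 0 (s • f 0 + t • f 1) = 0 →
      dl v c 2 (s • f 0 + t • f 1) + u 0 (s • f 0 + t • f 1) * d 0 (s • f 0 + t • f 1) +
        u 1 (s • f 0 + t • f 1) * d 1 (s • f 0 + t • f 1) = 0 → s = 0 ∧ t = 0) : Ψ = 0 := by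
  have hw := kill_ww hΨ H Hh
  have m02 : ∀ e, Ψ (f.coord 0) (f.coord 2) e = 0 := kill_mul hw hc0 hc2
  have m03 : ∀ e, Ψ (f.coord 0) (f.coord 3) e = 0 := kill_mul hw hc0 hc3
  have m12 : ∀ e, Ψ (f.coord 1) (f.coord 2) e = 0 := kill_mul hw hc1 hc2
  have m13 : ∀ e, Ψ (f.coord 1) (f.coord 3) e = 0 := kill_mul hw hc1 hc3
  have m20 : ∀ e, Ψ (f.coord 2) (f.coord 0) e = 0 := fun e => by rw [hΨ.s12, m02]
  have m30 : ∀ e, Ψ (f.coord 3) (f.coord 0) e = 0 := fun e => by rw [hΨ.s12, m03]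
  have m21 : ∀ e, Ψ (f.coord 2) (f.coord 1) e = 0 := fun e => by rw [hΨ.s12, m12]
  have m31 : ∀ e, Ψ (f.coord 3) (f.coord 1) e = 0 := fun e => by rw [hΨ.s12, m13]
  have n4 : ∀ e e', Ψ (f.coord 4) e e' = 0 := by rw [← h4]; exact Hh
  have n4' : ∀ e e', Ψ e (f.coord 4) e' = 0 := fun e e' => by rw [hΨ.s12, n4]
  have n4'' : ∀ e e', Ψ e e' (f.coord 4) = 0 := fun e e' => by rw [hΨ.s23, n4']
  have x0 := pair f hΨ (i := 0) (j := 1) (by decide) (a := f.coord 0) (fun l h1 h2 e => by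
    fin_cases l <;> first | exact absurd rfl h1 | exact absurd rfl h2 | exact m02 _ | exact m03 _ | exact n4' _ _)
  have x1 := pair f hΨ (i := 0) (j := 1) (by decide) (a := f.coord 1) (fun l h1 h2 e => by
    fin_cases l <;> first | exact absurd rfl h1 | exact absurd rfl h2 | exact m12 _ | exact m13 _ | exact n4' _ _)
  have x2 := pair f hΨ (i := 2) (j := 3) (by decide) (a := f.coord 2) (fun l h1 h2 e => by
    fin_cases l <;> first | exact absurd rfl h1 | exact absurd rfl h2 | exact m20 _ | exact m21 _ | exact n4' _ _)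
  have x3 := pair f hΨ (i := 2) (j := 3) (by decide) (a := f.coord 3) (fun l h1 h2 e => by
    fin_cases l <;> first | exact absurd rfl h1 | exact absurd rfl h2 | exact m30 _ | exact m31 _ | exact n4' _ _)
  rw [hΨ.s12 (f.coord 1) (f.coord 0), hΨ.s12 (f.coord 1) (f.coord 0), hΨ.s23 (f.coord 0) (f.coord 1) (f.coord 0)] at x1
  rw [hΨ.s12 (f.coord 3) (f.coord 2), hΨ.s12 (f.coord 3) (f.coord 2), hΨ.s23 (f.coord 2) (f.coord 3) (f.coord 2)] at x3
  -- values
  have u2f0 : u 2 (f 0) = 0 := h0 0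
  have u2f1 : u 2 (f 1) = 0 := h1 0
  have v2f0 : v 2 (f 0) = 0 := h0 1
  have v2f1 : v 2 (f 1) = 0 := h1 1
  have c2f0 : c 2 (f 0) = 0 := h0 2
  have c2f1 : c 2 (f 1) = 0 := h1 2
  -- the relations
  have r0 : ∀ e, Ψ e (u 0) (v 1) - Ψ e (u 1) (v 0) = 0 := fun e => by
    rw [hΨ.rot e, hΨ.rot e, H.C 0 1 e, sub_self]
  have r1 : ∀ e, Ψ e (c 0) (u 1) - Ψ e (c 1) (u 0) = 0 := fun e => by
    rw [hΨ.rot e, hΨ.rot e, H.V 0 1 e, sub_self]
  have r2 : ∀ e, Ψ e (v 0) (c 1) - Ψ e (v 1) (c 0) + Ψ e (u 0) (d 0) + Ψ e (u 1) (d 1) = 0 := fun e => by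
    have := H.U 2 e
    rw [Fin.sum_univ_three, Hh] at this
    simp only [Pi.single_eq_same, Fin.reduceAdd] at this
    rw [hΨ.rot e, hΨ.rot e, hΨ.rot e, hΨ.rot e]
    linear_combination this
  have r3 : ∀ e, Ψ e (v 1) (c 2) - Ψ e (v 2) (c 1) = 0 := fun e => by
    have := H.U 0 e
    rw [Hh] at this
    rw [hΨ.rot e, hΨ.rot e]
    simpa using this
  have r4 : ∀ e, Ψ e (v 2) (c 0) - Ψ e (v 0) (c 2) = 0 := fun e => by
    have := H.U 1 e
    rw [Hh] at this
    rw [hΨ.rot e, hΨ.rot e]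
    simpa using this
  -- `ℓ''`
  obtain ⟨A0, A1, A2, A3⟩ := Quad.hankel_zero (ι := Fin 3)
    (a := ![u 0 (f 0) * v 1 (f 0) - u 1 (f 0) * v 0 (f 0), c 0 (f 0) * u 1 (f 0) - c 1 (f 0) * u 0 (f 0),
      v 0 (f 0) * c 1 (f 0) - v 1 (f 0) * c 0 (f 0) + u 0 (f 0) * d 0 (f 0) + u 1 (f 0) * d 1 (f 0)])
    (b := ![u 0 (f 0) * v 1 (f 1) + u 0 (f 1) * v 1 (f 0) - (u 1 (f 0) * v 0 (f 1) + u 1 (f 1) * v 0 (f 0)),
      c 0 (f 0) * u 1 (f 1) + c 0 (f 1) * u 1 (f 0) - (c 1 (f 0) * u 0 (f 1) + c 1 (f 1) * u 0 (f 0)),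
      v 0 (f 0) * c 1 (f 1) + v 0 (f 1) * c 1 (f 0) - (v 1 (f 0) * c 0 (f 1) + v 1 (f 1) * c 0 (f 0)) +
        (u 0 (f 0) * d 0 (f 1) + u 0 (f 1) * d 0 (f 0)) + (u 1 (f 0) * d 1 (f 1) + u 1 (f 1) * d 1 (f 0))])
    (c := ![u 0 (f 1) * v 1 (f 1) - u 1 (f 1) * v 0 (f 1), c 0 (f 1) * u 1 (f 1) - c 1 (f 1) * u 0 (f 1),
      v 0 (f 1) * c 1 (f 1) - v 1 (f 1) * c 0 (f 1) + u 0 (f 1) * d 0 (f 1) + u 1 (f 1) * d 1 (f 1)])
    (by
      intro s t hst
      refine S2 s t ?_ ?_ ?_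
      · have := hst 0
        simp only [Matrix.cons_val] at this
        simp only [map_add, map_smul, smul_eq_mul]
        linear_combination this
      · have := hst 1
        simp only [Matrix.cons_val] at this
        simp only [map_add, map_smul, smul_eq_mul]
        linear_combination this
      · have := hst 2
        simp only [Matrix.cons_val] at this
        simp only [dl, Fin.reduceAdd, map_add, map_smul, smul_eq_mul]
        linear_combination this)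
    (A0 := Ψ (f.coord 0) (f.coord 0) (f.coord 0)) (A1 := Ψ (f.coord 0) (f.coord 0) (f.coord 1))
    (A2 := Ψ (f.coord 0) (f.coord 1) (f.coord 1)) (A3 := Ψ (f.coord 1) (f.coord 1) (f.coord 1))
    (by
      intro i
      fin_cases i
      · have := r0 (f.coord 0)
        rw [x0 (u 0) (v 1), x0 (u 1) (v 0)] at this
        simp only [Fin.zero_eta, Fin.mk_one, Fin.reduceFinMk, Matrix.cons_val]
        linear_combination this
      · have := r1 (f.coord 0)
        rw [x0 (c 0) (u 1), x0 (c 1) (u 0)] at this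
        simp only [Fin.zero_eta, Fin.mk_one, Fin.reduceFinMk, Matrix.cons_val]
        linear_combination this
      · have := r2 (f.coord 0)
        rw [x0 (v 0) (c 1), x0 (v 1) (c 0), x0 (u 0) (d 0), x0 (u 1) (d 1)] at this
        simp only [Fin.zero_eta, Fin.mk_one, Fin.reduceFinMk, Matrix.cons_val]
        linear_combination this)
    (by
      intro i
      fin_cases i
      · have := r0 (f.coord 1)
        rw [x1 (u 0) (v 1), x1 (u 1) (v 0)] at this
        simp only [Fin.zero_eta, Fin.mk_one, Fin.reduceFinMk, Matrix.cons_val]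
        linear_combination this
      · have := r1 (f.coord 1)
        rw [x1 (c 0) (u 1), x1 (c 1) (u 0)] at this
        simp only [Fin.zero_eta, Fin.mk_one, Fin.reduceFinMk, Matrix.cons_val]
        linear_combination this
      · have := r2 (f.coord 1)
        rw [x1 (v 0) (c 1), x1 (v 1) (c 0), x1 (u 0) (d 0), x1 (u 1) (d 1)] at this
        simp only [Fin.zero_eta, Fin.mk_one, Fin.reduceFinMk, Matrix.cons_val]
        linear_combination this)
  -- `ℓ'`
  obtain ⟨B0, B1, B2, B3⟩ := Quad.hankel_zero (ι := Fin 3)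
    (a := ![v 1 (f 2) * c 2 (f 2) - v 2 (f 2) * c 1 (f 2), v 2 (f 2) * c 0 (f 2) - v 0 (f 2) * c 2 (f 2),
      v 0 (f 2) * c 1 (f 2) - v 1 (f 2) * c 0 (f 2)])
    (b := ![v 1 (f 2) * c 2 (f 3) + v 1 (f 3) * c 2 (f 2) - (v 2 (f 2) * c 1 (f 3) + v 2 (f 3) * c 1 (f 2)),
      v 2 (f 2) * c 0 (f 3) + v 2 (f 3) * c 0 (f 2) - (v 0 (f 2) * c 2 (f 3) + v 0 (f 3) * c 2 (f 2)),
      v 0 (f 2) * c 1 (f 3) + v 0 (f 3) * c 1 (f 2) - (v 1 (f 2) * c 0 (f 3) + v 1 (f 3) * c 0 (f 2))])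
    (c := ![v 1 (f 3) * c 2 (f 3) - v 2 (f 3) * c 1 (f 3), v 2 (f 3) * c 0 (f 3) - v 0 (f 3) * c 2 (f 3),
      v 0 (f 3) * c 1 (f 3) - v 1 (f 3) * c 0 (f 3)])
    (by
      intro s t hst
      refine S1 s t fun i => ?_
      have := hst i
      fin_cases i <;>
      · simp only [Fin.zero_eta, Fin.mk_one, Fin.reduceFinMk, Matrix.cons_val] at this
        simp only [dl, Fin.zero_eta, Fin.mk_one, Fin.reduceFinMk, Fin.reduceAdd, zero_add, map_add, map_smul,
          smul_eq_mul]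
        linear_combination this)
    (A0 := Ψ (f.coord 2) (f.coord 2) (f.coord 2)) (A1 := Ψ (f.coord 2) (f.coord 2) (f.coord 3))
    (A2 := Ψ (f.coord 2) (f.coord 3) (f.coord 3)) (A3 := Ψ (f.coord 3) (f.coord 3) (f.coord 3))
    (by
      intro i
      fin_cases i
      · have := r3 (f.coord 2)
        rw [x2 (v 1) (c 2), x2 (v 2) (c 1)] at this
        simp only [Fin.zero_eta, Fin.mk_one, Fin.reduceFinMk, Matrix.cons_val]
        linear_combination this
      · have := r4 (f.coord 2)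
        rw [x2 (v 2) (c 0), x2 (v 0) (c 2)] at this
        simp only [Fin.zero_eta, Fin.mk_one, Fin.reduceFinMk, Matrix.cons_val]
        linear_combination this
      · have := r2 (f.coord 2)
        rw [x2 (v 0) (c 1), x2 (v 1) (c 0), x2 (u 0) (d 0), x2 (u 1) (d 1)] at this
        simp only [h2, h3] at this
        simp only [Fin.zero_eta, Fin.mk_one, Fin.reduceFinMk, Matrix.cons_val]
        linear_combination this)
    (by
      intro i
      fin_cases i
      · have := r3 (f.coord 3)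
        rw [x3 (v 1) (c 2), x3 (v 2) (c 1)] at this
        simp only [Fin.zero_eta, Fin.mk_one, Fin.reduceFinMk, Matrix.cons_val]
        linear_combination this
      · have := r4 (f.coord 3)
        rw [x3 (v 2) (c 0), x3 (v 0) (c 2)] at this
        simp only [Fin.zero_eta, Fin.mk_one, Fin.reduceFinMk, Matrix.cons_val]
        linear_combination this
      · have := r2 (f.coord 3)
        rw [x3 (v 0) (c 1), x3 (v 1) (c 0), x3 (u 0) (d 0), x3 (u 1) (d 1)] at this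
        simp only [h2, h3] at this
        simp only [Fin.zero_eta, Fin.mk_one, Fin.reduceFinMk, Matrix.cons_val]
        linear_combination this)
  refine zero_of_coord f fun j e e' => ?_
  fin_cases j
  · exact (x0 e e').trans (by rw [A0, A1, A2]; ring)
  · exact (x1 e e').trans (by rw [A1, A2, A3]; ring)
  · exact (x2 e e').trans (by rw [B0, B1, B2]; ring)
  · exact (x3 e e').trans (by rw [B1, B2, B3]; ring)
  · exact n4 e e'

/-- The case where `ℓ'` and `ℓ''` meet. -/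
theorem meet (hΨ : IsSym3 Ψ) (H : Kill Ψ (Pi.single 2 1) (u 2) u v c d) (Hh : ∀ e e', Ψ (u 2) e e' = 0)
    (f : Basis (Fin 5) k V) (h2 : ∀ i, u i (f 2) = 0) (h3 : ∀ i, u i (f 3) = 0)
    (h1 : ∀ j, ww u v c j (f 1) = 0) (h3' : ∀ j, ww u v c j (f 3) = 0)
    (hc0 : ∀ x, (∀ i, u i x = 0) → f.coord 0 x = 0) (hc1 : ∀ x, (∀ i, u i x = 0) → f.coord 1 x = 0)
    (hc0' : ∀ x, (∀ i, ww u v c i x = 0) → f.coord 0 x = 0) (hc2 : ∀ x, (∀ i, ww u v c i x = 0) → f.coord 2 x = 0)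
    (h4 : u 2 = f.coord 4)
    (S1 : ∀ s t : k, (∀ i, dl v c i (s • f 2 + t • f 3) = 0) → s = 0 ∧ t = 0)
    (S2 : ∀ s t : k, u 0 (s • f 1 + t • f 3) * v 1 (s • f 1 + t • f 3) -
        u 1 (s • f 1 + t • f 3) * v 0 (s • f 1 + t • f 3) = 0 →
      c 0 (s • f 1 + t • f 3) * u 1 (s • f 1 + t • f 3) -
        c 1 (s • f 1 + t • f 3) * u 0 (s • f 1 + t • f 3) = 0 →
      dl v c 2 (s • f 1 + t • f 3) + u 0 (s • f 1 + t • f 3) * d 0 (s • f 1 + t • f 3) +
        u 1 (s • f 1 + t • f 3) * d 1 (s • f 1 + t • f 3) = 0 → s = 0 ∧ t = 0) : Ψ = 0 := by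
  have hw := kill_ww hΨ H Hh
  have m00 : ∀ e, Ψ (f.coord 0) (f.coord 0) e = 0 := kill_mul hw hc0 hc0'
  have m02 : ∀ e, Ψ (f.coord 0) (f.coord 2) e = 0 := kill_mul hw hc0 hc2
  have m10 : ∀ e, Ψ (f.coord 1) (f.coord 0) e = 0 := kill_mul hw hc1 hc0'
  have m12 : ∀ e, Ψ (f.coord 1) (f.coord 2) e = 0 := kill_mul hw hc1 hc2
  have m01 : ∀ e, Ψ (f.coord 0) (f.coord 1) e = 0 := fun e => by rw [hΨ.s12, m10]
  have m20 : ∀ e, Ψ (f.coord 2) (f.coord 0) e = 0 := fun e => by rw [hΨ.s12, m02]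
  have m21 : ∀ e, Ψ (f.coord 2) (f.coord 1) e = 0 := fun e => by rw [hΨ.s12, m12]
  have n4 : ∀ e e', Ψ (f.coord 4) e e' = 0 := by rw [← h4]; exact Hh
  have n4' : ∀ e e', Ψ e (f.coord 4) e' = 0 := fun e e' => by rw [hΨ.s12, n4]
  -- the relations
  have r0 : ∀ e, Ψ e (u 0) (v 1) - Ψ e (u 1) (v 0) = 0 := fun e => by
    rw [hΨ.rot e, hΨ.rot e, H.C 0 1 e, sub_self]
  have r1 : ∀ e, Ψ e (c 0) (u 1) - Ψ e (c 1) (u 0) = 0 := fun e => by
    rw [hΨ.rot e, hΨ.rot e, H.V 0 1 e, sub_self]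
  have r2 : ∀ e, Ψ e (v 0) (c 1) - Ψ e (v 1) (c 0) + Ψ e (u 0) (d 0) + Ψ e (u 1) (d 1) = 0 := fun e => by
    have := H.U 2 e
    rw [Fin.sum_univ_three, Hh] at this
    simp only [Pi.single_eq_same, Fin.reduceAdd] at this
    rw [hΨ.rot e, hΨ.rot e, hΨ.rot e, hΨ.rot e]
    linear_combination this
  have r3 : ∀ e, Ψ e (v 1) (c 2) - Ψ e (v 2) (c 1) = 0 := fun e => by
    have := H.U 0 e
    rw [Hh] at this
    rw [hΨ.rot e, hΨ.rot e]
    simpa using this
  have r4 : ∀ e, Ψ e (v 2) (c 0) - Ψ e (v 0) (c 2) = 0 := fun e => by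
    have := H.U 1 e
    rw [Hh] at this
    rw [hΨ.rot e, hΨ.rot e]
    simpa using this
  have v2f1 : v 2 (f 1) = 0 := h1 1
  have c2f1 : c 2 (f 1) = 0 := h1 2
  have v2f3 : v 2 (f 3) = 0 := h3' 1
  have c2f3 : c 2 (f 3) = 0 := h3' 2
  -- the value at the common point
  have hz : v 0 (f 3) * c 1 (f 3) - v 1 (f 3) * c 0 (f 3) ≠ 0 := by
    intro h0
    have := S1 0 1 fun i => by
      fin_cases i
      · simp only [dl, zero_smul, one_smul, zero_add, Fin.zero_eta, Fin.reduceAdd, v2f3, c2f3, mul_zero, zero_mul,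
          sub_zero]
      · simp only [dl, zero_smul, one_smul, zero_add, Fin.mk_one, Fin.reduceAdd, v2f3, c2f3, mul_zero, zero_mul,
          sub_zero]
      · simp only [dl, zero_smul, one_smul, zero_add, Fin.reduceFinMk, Fin.reduceAdd]
        exact h0
    exact one_ne_zero this.2
  -- `x₀`
  have x0 := pair f hΨ (i := 3) (j := 4) (by decide) (a := f.coord 0) (fun l h1 h2 e => by
    fin_cases l <;> first | exact absurd rfl h1 | exact absurd rfl h2 | exact m00 _ | exact m01 _ | exact m02 _)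
  have Z : Ψ (f.coord 0) (f.coord 3) (f.coord 3) = 0 := by
    have := r2 (f.coord 0)
    rw [x0 (v 0) (c 1), x0 (v 1) (c 0), x0 (u 0) (d 0), x0 (u 1) (d 1), hΨ.s23 _ _ (f.coord 4), n4', n4', h3, h3] at this
    refine (mul_eq_zero.1 (?_ : (v 0 (f 3) * c 1 (f 3) - v 1 (f 3) * c 0 (f 3)) * _ = 0)).resolve_left hz
    linear_combination this
  have z0 : ∀ e e', Ψ (f.coord 0) e e' = 0 := fun e e' => by
    rw [x0, Z, hΨ.s23 _ _ (f.coord 4), n4', n4']
    ring
  have z0' : ∀ e e', Ψ e (f.coord 0) e' = 0 := fun e e' => by rw [hΨ.s12, z0]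
  -- `x₁` and `x₂`
  have x1 := pair f hΨ (i := 1) (j := 3) (by decide) (a := f.coord 1) (fun l h1 h2 e => by
    fin_cases l <;> first | exact absurd rfl h1 | exact absurd rfl h2 | exact z0' _ _ | exact m12 _ | exact n4' _ _)
  have x2 := pair f hΨ (i := 2) (j := 3) (by decide) (a := f.coord 2) (fun l h1 h2 e => by
    fin_cases l <;> first | exact absurd rfl h1 | exact absurd rfl h2 | exact z0' _ _ | exact m21 _ | exact n4' _ _)
  have x3 : ∀ e e', Ψ (f.coord 3) e e' = e (f 1) * e' (f 1) * Ψ (f.coord 1) (f.coord 1) (f.coord 3) +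
      (e (f 1) * e' (f 3) + e (f 3) * e' (f 1)) * Ψ (f.coord 1) (f.coord 3) (f.coord 3) +
      e (f 2) * e' (f 2) * Ψ (f.coord 2) (f.coord 2) (f.coord 3) +
      (e (f 2) * e' (f 3) + e (f 3) * e' (f 2)) * Ψ (f.coord 2) (f.coord 3) (f.coord 3) +
      e (f 3) * e' (f 3) * Ψ (f.coord 3) (f.coord 3) (f.coord 3) := by
    intro e e'
    have h : Ψ (f.coord 3) e e' = e (f 1) * Ψ (f.coord 1) (f.coord 3) e' + e (f 2) * Ψ (f.coord 2) (f.coord 3) e' +
        e (f 3) * Ψ (f.coord 3) (f.coord 3) e' := by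
      rw [expand3 f, Fin.sum_univ_five, z0', n4', hΨ.s12 (f.coord 1), hΨ.s12 (f.coord 2)]
      ring
    have h33 : Ψ (f.coord 3) (f.coord 3) e' = e' (f 1) * Ψ (f.coord 1) (f.coord 3) (f.coord 3) +
        e' (f 2) * Ψ (f.coord 2) (f.coord 3) (f.coord 3) + e' (f 3) * Ψ (f.coord 3) (f.coord 3) (f.coord 3) := by
      rw [hΨ.s23, expand3 f, Fin.sum_univ_five, z0', n4', hΨ.s12 (f.coord 1), hΨ.s12 (f.coord 2)]
      ring
    rw [h, h33, x1, x2]
    simp only [Basis.coord_apply, Basis.repr_self, Finsupp.single_apply, Fin.reduceEq, if_false, if_true]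
    ring
  -- `ℓ''`
  obtain ⟨A0, A1, A2⟩ := Quad.hankel_zero'
    (a0 := u 0 (f 1) * v 1 (f 1) - u 1 (f 1) * v 0 (f 1)) (b0 := u 0 (f 1) * v 1 (f 3) - u 1 (f 1) * v 0 (f 3))
    (a1 := c 0 (f 1) * u 1 (f 1) - c 1 (f 1) * u 0 (f 1)) (b1 := c 0 (f 3) * u 1 (f 1) - c 1 (f 3) * u 0 (f 1))
    (a2 := v 0 (f 1) * c 1 (f 1) - v 1 (f 1) * c 0 (f 1) + u 0 (f 1) * d 0 (f 1) + u 1 (f 1) * d 1 (f 1))
    (b2 := v 0 (f 1) * c 1 (f 3) + v 0 (f 3) * c 1 (f 1) - (v 1 (f 1) * c 0 (f 3) + v 1 (f 3) * c 0 (f 1)) +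
      u 0 (f 1) * d 0 (f 3) + u 1 (f 1) * d 1 (f 3))
    (c2 := v 0 (f 3) * c 1 (f 3) - v 1 (f 3) * c 0 (f 3))
    (by
      intro s t e1 e2 e3
      refine S2 s t ?_ ?_ ?_
      · simp only [map_add, map_smul, smul_eq_mul, h3]
        linear_combination e1
      · simp only [map_add, map_smul, smul_eq_mul, h3]
        linear_combination e2
      · simp only [dl, Fin.reduceAdd, map_add, map_smul, smul_eq_mul, h3]
        linear_combination e3)
    (A0 := Ψ (f.coord 1) (f.coord 1) (f.coord 1)) (A1 := Ψ (f.coord 1) (f.coord 1) (f.coord 3))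
    (A2 := Ψ (f.coord 1) (f.coord 3) (f.coord 3))
    (by
      have := r0 (f.coord 1)
      rw [x1 (u 0) (v 1), x1 (u 1) (v 0), h3, h3] at this
      linear_combination this)
    (by
      have := r0 (f.coord 3)
      rw [x3 (u 0) (v 1), x3 (u 1) (v 0), h3, h3, h2, h2] at this
      linear_combination this)
    (by
      have := r1 (f.coord 1)
      rw [x1 (c 0) (u 1), x1 (c 1) (u 0), h3, h3] at this
      linear_combination this)
    (by
      have := r1 (f.coord 3)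
      rw [x3 (c 0) (u 1), x3 (c 1) (u 0), h3, h3, h2, h2] at this
      linear_combination this)
    (by
      have := r2 (f.coord 1)
      rw [x1 (v 0) (c 1), x1 (v 1) (c 0), x1 (u 0) (d 0), x1 (u 1) (d 1), h3, h3] at this
      linear_combination this)
  -- `ℓ'`
  obtain ⟨B0, B1, B2⟩ := Quad.hankel_zero'
    (a0 := v 1 (f 2) * c 2 (f 2) - v 2 (f 2) * c 1 (f 2)) (b0 := v 1 (f 3) * c 2 (f 2) - v 2 (f 2) * c 1 (f 3))
    (a1 := v 2 (f 2) * c 0 (f 2) - v 0 (f 2) * c 2 (f 2)) (b1 := v 2 (f 2) * c 0 (f 3) - v 0 (f 3) * c 2 (f 2))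
    (a2 := v 0 (f 2) * c 1 (f 2) - v 1 (f 2) * c 0 (f 2))
    (b2 := v 0 (f 2) * c 1 (f 3) + v 0 (f 3) * c 1 (f 2) - (v 1 (f 2) * c 0 (f 3) + v 1 (f 3) * c 0 (f 2)))
    (c2 := v 0 (f 3) * c 1 (f 3) - v 1 (f 3) * c 0 (f 3))
    (by
      intro s t e1 e2 e3
      refine S1 s t fun i => ?_
      fin_cases i
      · simp only [dl, Fin.zero_eta, Fin.mk_one, Fin.reduceFinMk, Fin.reduceAdd, zero_add, map_add, map_smul,
          smul_eq_mul, v2f3, c2f3]
        linear_combination e1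
      · simp only [dl, Fin.zero_eta, Fin.mk_one, Fin.reduceFinMk, Fin.reduceAdd, zero_add, map_add, map_smul,
          smul_eq_mul, v2f3, c2f3]
        linear_combination e2
      · simp only [dl, Fin.zero_eta, Fin.mk_one, Fin.reduceFinMk, Fin.reduceAdd, zero_add, map_add, map_smul,
          smul_eq_mul]
        linear_combination e3)
    (A0 := Ψ (f.coord 2) (f.coord 2) (f.coord 2)) (A1 := Ψ (f.coord 2) (f.coord 2) (f.coord 3))
    (A2 := Ψ (f.coord 2) (f.coord 3) (f.coord 3))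
    (by
      have := r3 (f.coord 2)
      rw [x2 (v 1) (c 2), x2 (v 2) (c 1), v2f3, c2f3] at this
      linear_combination this)
    (by
      have := r3 (f.coord 3)
      rw [x3 (v 1) (c 2), x3 (v 2) (c 1), v2f3, c2f3, v2f1, c2f1] at this
      linear_combination this)
    (by
      have := r4 (f.coord 2)
      rw [x2 (v 2) (c 0), x2 (v 0) (c 2), v2f3, c2f3] at this
      linear_combination this)
    (by
      have := r4 (f.coord 3)
      rw [x3 (v 2) (c 0), x3 (v 0) (c 2), v2f3, c2f3, v2f1, c2f1] at this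
      linear_combination this)
    (by
      have := r2 (f.coord 2)
      rw [x2 (v 0) (c 1), x2 (v 1) (c 0), x2 (u 0) (d 0), x2 (u 1) (d 1), h3, h3, h2, h2] at this
      linear_combination this)
  have C3 : Ψ (f.coord 3) (f.coord 3) (f.coord 3) = 0 := by
    have := r2 (f.coord 3)
    rw [x3 (v 0) (c 1), x3 (v 1) (c 0), x3 (u 0) (d 0), x3 (u 1) (d 1), A1, A2, B1, B2, h3, h3] at this
    refine (mul_eq_zero.1 (?_ : (v 0 (f 3) * c 1 (f 3) - v 1 (f 3) * c 0 (f 3)) * _ = 0)).resolve_left hz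
    linear_combination this
  refine zero_of_coord f fun j e e' => ?_
  fin_cases j
  · exact z0 e e'
  · exact (x1 e e').trans (by rw [A0, A1, A2]; ring)
  · exact (x2 e e').trans (by rw [B0, B1, B2]; ring)
  · exact (x3 e e').trans (by rw [A1, A2, B1, B2, C3]; ring)
  · exact n4 e e'

end Skew

end K972.Core
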