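import Groth.Agent.Fano.K972.Bad
import Groth.Agent.Fano.K409.ZeroEntry

/-!
# The bad part of the Pfaffian locus: arbitrary `h = p · u`
-/

set_option autoImplicit false

universe u v w

namespace K972.Gauge

open K656.Trilin Module K714.Surf K972.Core K972.Bad

variable {k : Type u} [Field k] {V : Type u} [AddCommGroup V] [Module k V]
  {T : V →ₗ[k] V →ₗ[k] V →ₗ[k] k}
variable {h : Dual k V} {u v c d : Fin 3 → Dual k V}

/-- a smooth cubic threefold is not determinantal -/
theorem not_det [IsAlgClosed k] [CharZero k] [FiniteDimensional k V] (hT : IsSym3 T) (hV : finrank k V = 5)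
    (hsm : SmoothOn T ⊤) (hf : ∀ x, T x x x = cub 0 u v c d x) : False := by
  -- the matrix
  let Φ : V →ₗ[k] (Fin 3 → Fin 3 → k) := LinearMap.pi fun i => LinearMap.pi fun j => (![u, v, c] i j)
  have hΦ : ∀ x i j, Φ x i j = ![u, v, c] i j x := fun x i j => rfl
  -- a point where the matrix has rank ≤ 1
  obtain ⟨x, hx, a, b, hab⟩ : ∃ x : V, x ≠ 0 ∧ ∃ a b : Fin 3 → k, ∀ i j, Φ x i j = a i * b j := by
    by_cases hinj : Function.Injective Φ
    · let S := LinearMap.range Φ
      have hS : finrank k ↥S = 5 := by rw [LinearMap.finrank_range_of_inj hinj, hV]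
      have hQ : finrank k ((Fin 3 → Fin 3 → k) ⧸ S) = 4 := by
        have := Submodule.finrank_quotient_add_finrank S
        rw [hS, finrank_pi_fintype] at this
        simp only [finrank_fintype_fun_eq_card, Fintype.card_fin, Finset.sum_const, Finset.card_univ, smul_eq_mul] at this
        omega
      let β := finBasisOfFinrankEq k _ hQ
      let ψ : (Fin 3 → Fin 3 → k) →ₗ[k] (Fin 4 → k) := β.equivFun.toLinearMap.comp S.mkQ
      obtain ⟨a, b, ha, hb, hab⟩ := K409.ZeroEntry.exists_zero_entry
        (fun i j => ψ (Pi.single i (Pi.single j 1)))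
      have h1 : ψ (fun i j => a i * b j) = 0 := by
        have : (fun i j => a i * b j : Fin 3 → Fin 3 → k) =
            ∑ i, ∑ j, (a i * b j) • (Pi.single i (Pi.single j 1) : Fin 3 → Fin 3 → k) := by
          funext i j
          simp only [Finset.sum_apply, Pi.smul_apply, smul_eq_mul, Pi.single_apply]
          rw [Finset.sum_eq_single i, Finset.sum_eq_single j]
          · simp
          · intro j' _ hj'
            simp [hj'.symm]
          · simp
          · intro i' _ hi'
            simp [hi'.symm]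
          · simp
        rw [this]
        simp only [map_sum, map_smul]
        funext t
        simp only [Finset.sum_apply, Pi.smul_apply, smul_eq_mul, Pi.zero_apply]
        rw [← hab t]
        refine Finset.sum_congr rfl fun i _ => Finset.sum_congr rfl fun j _ => by ring
      have h2 : (fun i j => a i * b j : Fin 3 → Fin 3 → k) ∈ S := by
        have h3 : S.mkQ (fun i j => a i * b j) = 0 := by
          apply β.equivFun.injective
          rw [map_zero]
          exact h1
        rwa [Submodule.mkQ_apply, Submodule.Quotient.mk_eq_zero] at h3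
      obtain ⟨x, hx⟩ := h2
      refine ⟨x, ?_, a, b, fun i j => by rw [hx]⟩
      rintro rfl
      obtain ⟨i, hi⟩ := Function.ne_iff.1 ha
      obtain ⟨j, hj⟩ := Function.ne_iff.1 hb
      have h3 := congrFun (congrFun hx i) j
      rw [map_zero] at h3
      exact mul_ne_zero hi hj h3.symm
    · rw [injective_iff_map_eq_zero] at hinj
      push Not at hinj
      obtain ⟨x, hx, hne⟩ := hinj
      exact ⟨x, hne, 0, 0, fun i j => by rw [hx]; simp⟩
  have hu : ∀ j, u j x = a 0 * b j := fun j => hab 0 j
  have hv : ∀ j, v j x = a 1 * b j := fun j => hab 1 j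
  have hc : ∀ j, c j x = a 2 * b j := fun j => hab 2 j
  have h0 : T x x x = 0 := by
    rw [hf, cub]
    simp only [LinearMap.zero_apply, zero_mul, zero_add, dl, Fin.sum_univ_three, Fin.reduceAdd, hu, hv, hc]
    ring
  obtain ⟨y, -, hy⟩ := hsm x trivial hx h0
  have := deriv hT hf x y
  simp only [dl, Fin.sum_univ_three, Fin.reduceAdd, zero_add, hu, hv, hc, LinearMap.zero_apply] at this
  refine hy ((mul_eq_zero.1 (?_ : (3 : k) * T x x y = 0)).resolve_left three_ne_zero)
  linear_combination this

section Shift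

variable {p : Fin 3 → k}

theorem cub_shift (m : Fin 3) (x : V) :
    cub h (fun i => u (i + m)) (fun i => v (i + m)) (fun i => c (i + m)) (fun i => d (i + m)) x = cub h u v c d x := by
  have e1 := Equiv.sum_comp (Equiv.addRight m) (fun i => u i x * d i x)
  have e2 := Equiv.sum_comp (Equiv.addRight m) (fun i => u i x * dl v c i x)
  simp only [Equiv.coe_addRight] at e1 e2
  rw [cub, cub, e1, ← e2]
  simp only [dl, add_right_comm]

theorem kill_shift {Ψ : Dual k V →ₗ[k] Dual k V →ₗ[k] Dual k V →ₗ[k] k} (H : Kill Ψ p h u v c d) (m : Fin 3) :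
    Kill Ψ (fun i => p (i + m)) h (fun i => u (i + m)) (fun i => v (i + m)) (fun i => c (i + m))
      (fun i => d (i + m)) where
  D i e := H.D _ e
  C i j e := H.C _ _ e
  V i j e := H.V _ _ e
  U i e := by
    have := H.U (i + m) e
    have e1 := Equiv.sum_comp (Equiv.addRight m) (fun j => Ψ (u j) (d j) e)
    simp only [Equiv.coe_addRight] at e1
    rw [e1]
    simp only [add_right_comm i _ m] at this ⊢
    exact this

end Shift

section Gauge

variable {p : Fin 3 → k}

/-- the transformed rows -/
noncomputable def gu (p : Fin 3 → k) (u : Fin 3 → Dual k V) : Fin 3 → Dual k V := ![u 0, u 1, ∑ i, p i • u i]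
noncomputable def gc (p : Fin 3 → k) (u : Fin 3 → Dual k V) : Fin 3 → Dual k V :=
  ![(p 2)⁻¹ • u 0, (p 2)⁻¹ • u 1, (p 2)⁻¹ • ∑ i, p i • u i]
noncomputable def gd (p : Fin 3 → k) (d : Fin 3 → Dual k V) : Fin 3 → Dual k V :=
  ![d 0 - (p 0 * (p 2)⁻¹) • d 2, d 1 - (p 1 * (p 2)⁻¹) • d 2, (p 2)⁻¹ • d 2]

theorem cub_gauge (hp : p 2 ≠ 0) (hh : h = ∑ i, p i • u i) (x : V) :
    cub (gu p u 2) (gu p u) (gu p v) (gc p c) (gd p d) x = cub h u v c d x := by
  subst hh
  simp only [cub, dl, gu, gc, gd, Fin.sum_univ_three, Fin.reduceAdd, zero_add, Matrix.cons_val, LinearMap.add_apply,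
    LinearMap.sub_apply, LinearMap.smul_apply, smul_eq_mul]
  field_simp
  ring

theorem kill_gauge (hp : p 2 ≠ 0) {Ψ : Dual k V →ₗ[k] Dual k V →ₗ[k] Dual k V →ₗ[k] k} (H : Kill Ψ p h u v c d)
    (hh : h = ∑ i, p i • u i) :
    Kill Ψ (Pi.single 2 1) (gu p u 2) (gu p u) (gu p v) (gc p c) (gd p d) := by
  have h2 : gu p u 2 = h := hh.symm
  rw [h2]
  refine ⟨?_, ?_, ?_, ?_⟩
  · intro i e
    fin_cases i
    · exact H.D 0 e
    · exact H.D 1 e
    · change Ψ h (∑ i, p i • u i) e = 0
      simp only [map_sum, map_smul, LinearMap.sum_apply, LinearMap.smul_apply, H.D, smul_zero, Finset.sum_const_zero]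
  · intro i j e
    fin_cases i <;> fin_cases j <;>
      simp only [gu, Fin.sum_univ_three, Fin.zero_eta, Fin.mk_one, Fin.reduceFinMk, Matrix.cons_val, map_add, map_smul,
        LinearMap.add_apply, LinearMap.smul_apply, smul_eq_mul, H.C 0 1, H.C 0 2, H.C 1 2]
    all_goals ring
  · intro i j e
    fin_cases i <;> fin_cases j <;>
      simp only [gu, gc, Fin.sum_univ_three, Fin.zero_eta, Fin.mk_one, Fin.reduceFinMk, Matrix.cons_val, map_add, map_smul,
        LinearMap.add_apply, LinearMap.smul_apply, smul_eq_mul, H.V 0 1, H.V 0 2, H.V 1 2]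
    all_goals ring
  · intro i e
    have u0 := H.U 0 e
    have u1 := H.U 1 e
    have u2 := H.U 2 e
    simp only [Fin.sum_univ_three, Fin.reduceAdd, zero_add] at u0 u1 u2
    have d0 := H.D 0 e
    have d1 := H.D 1 e
    have d2 := H.D 2 e
    fin_cases i
    · simp only [gu, gc, gd, Fin.sum_univ_three, Fin.zero_eta, Fin.mk_one, Fin.reduceFinMk, Fin.reduceAdd, zero_add,
        Matrix.cons_val, map_add, map_sub, map_smul, LinearMap.add_apply, LinearMap.sub_apply, LinearMap.smul_apply,
        smul_eq_mul, Pi.single_apply]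
      simp only [Fin.reduceEq, if_false, zero_mul, add_zero]
      field_simp
      linear_combination p 2 * u0 - p 0 * u2
    · simp only [gu, gc, gd, Fin.sum_univ_three, Fin.zero_eta, Fin.mk_one, Fin.reduceFinMk, Fin.reduceAdd, zero_add,
        Matrix.cons_val, map_add, map_sub, map_smul, LinearMap.add_apply, LinearMap.sub_apply, LinearMap.smul_apply,
        smul_eq_mul, Pi.single_apply]
      simp only [Fin.reduceEq, if_false, zero_mul, add_zero]
      field_simp
      linear_combination p 2 * u1 - p 1 * u2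
    · simp only [gu, gc, gd, Fin.sum_univ_three, Fin.zero_eta, Fin.mk_one, Fin.reduceFinMk, Fin.reduceAdd, zero_add,
        Matrix.cons_val, map_add, map_sub, map_smul, LinearMap.add_apply, LinearMap.sub_apply, LinearMap.smul_apply,
        smul_eq_mul, Pi.single_apply]
      simp only [if_true, one_mul]
      field_simp
      linear_combination u2

/-- The image of the differential has corank at most one. -/
theorem core_p [IsAlgClosed k] [CharZero k] [FiniteDimensional k V] (hT : IsSym3 T) (hV : finrank k V = 5)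
    (hsm : SmoothOn T ⊤) (hh : h = ∑ i, p i • u i) (hf : ∀ x, T x x x = cub h u v c d x)
    {Ψ Ψ' : Dual k V →ₗ[k] Dual k V →ₗ[k] Dual k V →ₗ[k] k} (hΨ : IsSym3 Ψ) (hΨ' : IsSym3 Ψ')
    (H : Kill Ψ p h u v c d) (H' : Kill Ψ' p h u v c d) :
    ∃ α β : k, (α ≠ 0 ∨ β ≠ 0) ∧ α • Ψ + β • Ψ' = 0 := by
  by_cases hp : p = 0
  · exfalso
    refine not_det (u := u) (v := v) (c := c) (d := d) hT hV hsm ?_
    have : h = 0 := by rw [hh, hp]; simp
    rw [← this]
    exact hf
  · obtain ⟨j, hj⟩ := Function.ne_iff.1 hp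
    obtain ⟨m, hm⟩ : ∃ m : Fin 3, 2 + m = j := ⟨j - 2, by abel⟩
    have G := kill_shift H m
    have G' := kill_shift H' m
    have hh' : h = ∑ i, p (i + m) • u (i + m) := by
      rw [hh]
      exact (Equiv.sum_comp (Equiv.addRight m) (fun i => p i • u i)).symm
    have hp2 : (fun i => p (i + m)) 2 ≠ 0 := by
      change p (2 + m) ≠ 0
      rw [hm]; exact hj
    have K := kill_gauge hp2 G hh'
    have K' := kill_gauge hp2 G' hh'
    refine core hT hV hsm (fun x => ?_) hΨ hΨ' K K'
    rw [cub_gauge hp2 hh', cub_shift]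
    exact hf x

end Gauge

end K972.Gauge
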