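import Groth.Agent.Fano.K714.Surf

/-!
# Binary quadratic forms without common zero
-/

set_option autoImplicit false

universe u v w

namespace K972.Quad

variable {k : Type u} [Field k] [IsAlgClosed k]

/-- Two vectors orthogonal to binary quadratic forms without common zero are proportional. -/
theorem cross_zero {ι : Type w} {a b c : ι → k}
    (h : ∀ s t : k, (∀ i, a i * s ^ 2 + b i * s * t + c i * t ^ 2 = 0) → s = 0 ∧ t = 0)
    {p0 p1 p2 q0 q1 q2 : k} (hp : ∀ i, a i * p0 + b i * p1 + c i * p2 = 0)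
    (hq : ∀ i, a i * q0 + b i * q1 + c i * q2 = 0) :
    p1 * q2 - p2 * q1 = 0 ∧ p2 * q0 - p0 * q2 = 0 ∧ p0 * q1 - p1 * q0 = 0 := by
  obtain ⟨s, t, hst, hz⟩ := K714.Surf.exists_quad_zero (p1 * q2 - p2 * q1) (p2 * q0 - p0 * q2) (p0 * q1 - p1 * q0)
  by_contra hcon
  have key : ∀ i, a i * s ^ 2 + b i * s * t + c i * t ^ 2 = 0 := by
    intro i
    have h1 : a i * (p2 * q0 - p0 * q2) = b i * (p1 * q2 - p2 * q1) := by
      linear_combination p2 * hq i - q2 * hp i
    have h2 : b i * (p0 * q1 - p1 * q0) = c i * (p2 * q0 - p0 * q2) := by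
      linear_combination p0 * hq i - q0 * hp i
    have h3 : a i * (p0 * q1 - p1 * q0) = c i * (p1 * q2 - p2 * q1) := by
      linear_combination -p1 * hq i + q1 * hp i
    by_contra h0
    apply hcon
    refine ⟨?_, ?_, ?_⟩ <;> refine (mul_eq_zero.1 ?_).resolve_right h0
    · linear_combination a i * hz - s * t * h1 - t ^ 2 * h3
    · linear_combination b i * hz + s ^ 2 * h1 - t ^ 2 * h2
    · linear_combination c i * hz + s ^ 2 * h3 + s * t * h2
  have := h s t key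
  rcases hst with h1 | h1
  · exact h1 this.1
  · exact h1 this.2

theorem hankel_zero {ι : Type w} {a b c : ι → k}
    (h : ∀ s t : k, (∀ i, a i * s ^ 2 + b i * s * t + c i * t ^ 2 = 0) → s = 0 ∧ t = 0)
    {A0 A1 A2 A3 : k} (h1 : ∀ i, a i * A0 + b i * A1 + c i * A2 = 0)
    (h2 : ∀ i, a i * A1 + b i * A2 + c i * A3 = 0) : A0 = 0 ∧ A1 = 0 ∧ A2 = 0 ∧ A3 = 0 := by
  obtain ⟨e1, e2, e3⟩ := cross_zero h h1 h2
  obtain ⟨g0, g1⟩ := h A0 A1 fun i => by linear_combination A0 * h1 i - c i * e3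
  subst g0 g1
  have g2 : A2 = 0 := by
    have : A2 * A2 = 0 := by linear_combination -e1
    exact mul_self_eq_zero.1 this
  subst g2
  obtain ⟨-, g3⟩ := h 0 A3 fun i => by linear_combination A3 * h2 i
  exact ⟨rfl, rfl, rfl, g3⟩

theorem hankel_zero' {a0 b0 a1 b1 a2 b2 c2 : k}
    (h : ∀ s t : k, a0 * s ^ 2 + b0 * s * t = 0 → a1 * s ^ 2 + b1 * s * t = 0 →
      a2 * s ^ 2 + b2 * s * t + c2 * t ^ 2 = 0 → s = 0 ∧ t = 0)
    {A0 A1 A2 : k} (h0 : a0 * A0 + b0 * A1 = 0) (h0' : a0 * A1 + b0 * A2 = 0)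
    (h1 : a1 * A0 + b1 * A1 = 0) (h1' : a1 * A1 + b1 * A2 = 0)
    (h2 : a2 * A0 + b2 * A1 + c2 * A2 = 0) : A0 = 0 ∧ A1 = 0 ∧ A2 = 0 := by
  have e : A0 * A2 - A1 ^ 2 = 0 := by
    by_contra hne
    have f0 : a0 = 0 := (mul_eq_zero.1 (show a0 * (A0 * A2 - A1 ^ 2) = 0 by
      linear_combination A2 * h0 - A1 * h0')).resolve_right hne
    have g0 : b0 = 0 := (mul_eq_zero.1 (show b0 * (A0 * A2 - A1 ^ 2) = 0 by
      linear_combination A0 * h0' - A1 * h0)).resolve_right hne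
    have f1 : a1 = 0 := (mul_eq_zero.1 (show a1 * (A0 * A2 - A1 ^ 2) = 0 by
      linear_combination A2 * h1 - A1 * h1')).resolve_right hne
    have g1 : b1 = 0 := (mul_eq_zero.1 (show b1 * (A0 * A2 - A1 ^ 2) = 0 by
      linear_combination A0 * h1' - A1 * h1)).resolve_right hne
    obtain ⟨s, t, hst, hz⟩ := K714.Surf.exists_quad_zero a2 b2 c2
    have := h s t (by rw [f0, g0]; ring) (by rw [f1, g1]; ring) hz
    rcases hst with h1 | h1
    · exact h1 this.1
    · exact h1 this.2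
  obtain ⟨g0, g1⟩ := h A0 A1 (by linear_combination A0 * h0) (by linear_combination A0 * h1)
    (by linear_combination A0 * h2 - c2 * e)
  subst g0 g1
  obtain ⟨-, g2⟩ := h 0 A2 (by ring) (by ring) (by linear_combination A2 * h2)
  exact ⟨rfl, rfl, g2⟩

end K972.Quad
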