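import Groth.Agent.Fano.K972.WFin
import Groth.Agent.Fano.K972.IrrPP
import Groth.Agent.Fano.K255.AsmE
import Groth.Agent.Fano.K573.PPCoords
import Groth.Agent.Fano.K419.QuintGeo
import Groth.Agent.Fano.K554.PfGoodE
import Groth.Agent.Fano.K431.PfFamE
import Groth.Agent.Fano.K560.EllReg
import Groth.Agent.Fano.K783.ConNd
import Groth.Agent.Fano.K783.ExNonDeg
import Groth.Agent.Fano.K332.PfGood
import Groth.Agent.Fano.K409.JacE

/-!
# Elliptic quintics on a smooth cubic threefold: the assembly (S16528; captain helper255)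

Nodes: G1 K419, K573; G2 K554; G3 K431; G4 K560; G5 K783; good matrices K332, K409; irreducibility K713, K692, K105,
K972; conormal sheaf of degenerate curves K554, K433, K972; limits K783, K419, K972.
-/

set_option autoImplicit false
universe u

open CategoryTheory CategoryTheory.Limits AlgebraicGeometry TopologicalSpace Opposite

namespace K972.Row28

open LefPen K715.Geo Groth.Agent.Fano.K714.Rat Groth.Agent.Fano.K714.Quart Groth.Agent.Fano.K715.Quint K255.Pf

variable {k : Type u} [Field k] [IsAlgClosed k] [CharZero k]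

theorem classStmt (f : Form 4 k 3) (hf : f ≠ 0) [Smooth (ps f)] : K255.AsmE.ClassStmt f := by
  intro C p i hcl hip hsm hpr hint hdim hg hdeg hnd
  obtain ⟨K, i1, i2, ξ, τ, y, w, h1, h2, h3, h4, h5, h6⟩ :=
    K419.QuintGeo.exists_coords f C p i hcl hip hsm hpr hint hdim hg hdeg hnd
  exact K573.PPCoords.exists_PP_of_coords f hf C p i hcl hip hint hdim K ξ τ y w h1 h2 h3 h4 h5 h6

theorem nonempty_PP (f : Form 4 k 3) (hf : f ≠ 0) [Smooth (ps f)] : (PP f.1).Nonempty :=
  (K972.IrrPP.irr_PP f.1 ((MvPolynomial.mem_homogeneousSubmodule _ _).1 f.2)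
    (Groth.Agent.Fano.K714.JacSm.smoothOn_tri f hf inferInstance)).1

theorem main (f : Form 4 k 3) (hf : f ≠ 0) [Smooth (ps f)] (H : Over (Spec (CommRingCat.of k)))
    (Z : FGA.HilbSet (ps f) H) (hH : FGA.HilbRepresentedBy (ps f) H Z) :
    IsIrreducible (curveSet f H Z 1 5) ∧ ∀ x ∈ curveSet f H Z 1 5, ringKrullDim (H.left.presheaf.stalk x) = 10 := by
  have hfh : f.1.IsHomogeneous 3 := (MvPolynomial.mem_homogeneousSubmodule _ _).1 f.2
  have hs := Groth.Agent.Fano.K714.JacSm.smoothOn_tri f hf inferInstance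
  refine K255.AsmE.irreducible_and_dim hH (K972.IrrPP.irr_PP f.1 hfh hs) ?_ (classStmt f hf) ?_ ?_ ?_ ?_
  · obtain ⟨M, hM, hj⟩ := K409.JacE.exists_jacE f.1 hfh hs (nonempty_PP f hf)
    exact ⟨M, hM, K332.PfGood.good_of_jacE M hj⟩
  · exact fun M hM hgood => K554.PfGoodE.of_goodE f M hM hgood
  · intro A M₀ hM₀ hgood x₀ hx₀ hA
    exact Groth.Agent.Fano.K431.PfFamE.exists_poly_good f H Z hH A hM₀ hgood hx₀ hA
  · intro C p i hcl hip hsm hpr hint hdim hg hdeg h hh
    have h0 : Subsingleton (Coh.HH C (Omega.conormal i) 0) := by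
      by_cases hnd : NonDeg (i ≫ emb f).ker
      · obtain ⟨M, hM, hker⟩ := classStmt f hf C p i hcl hip hsm hpr hint hdim hg hdeg hnd
        exact K783.ConNd.conormal_nondeg f hf C p i hcl hip hsm hpr hint hdim hg M hM hker hnd
      · exact K554.ConDeg.conormal_deg f hf C p i hcl hip hsm hpr hint hdim hg hdeg hnd
          (K972.WMain.wStmt f hf C p i hcl hip hsm hpr hint hdim hg hdeg)
    exact K560.EllReg.regular_ten f hf H Z hH C p i hcl hip hsm hpr hint hdim hg hdeg h0 h hh
  · intro x hx A hA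
    exact K783.ExNonDeg.exists_nondeg f hf (K972.WMain.wStmt f hf) (K972.WFin.nonLin f hf) H Z hH hx A hA

end K972.Row28
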