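import Groth.Agent.Fano.K972.GradDer
import Groth.Agent.Fano.K972.Bad
import Groth.Agent.Fano.K433.IndepMain
import Mathlib.Algebra.CharZero.Infinite

/-!
# Independent conditions on linear forms at the zeros of the gradient of a hyperplane section (S16528, (W))

`f` a smooth cubic in five variables, `l` a linear form, discrete valuation rings `O i` with points `φ i` of `f = l = 0`
such that the derivatives of `f` along `l = 0` lie in `m_i ^ δ_i`. If the linear forms separate the subschemes of length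
`≤ 2` then they map onto `∏ O_i / m_i ^ δ_i` and `∑ δ_i ≤ 4` (`main`), by `K433.Indep.sur_of` on the hyperplane.
-/

set_option autoImplicit false
set_option linter.unusedSectionVars false

universe u

namespace K972.WAlg

open K656.Trilin K714.Surf K433.Indep Module IsLocalRing K972.GradDer

section Ev

variable {k : Type u} [Field k] {n m : ℕ}

section Sums

variable {R : Type*} [CommRing R] [Algebra k R] (T : (Fin n → k) →ₗ[k] (Fin n → k) →ₗ[k] (Fin n → k) →ₗ[k] k)

theorem ev_zero1 (v w : Fin n → R) : ev T 0 v w = 0 := by simp [ev]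
theorem ev_zero2 (u w : Fin n → R) : ev T u 0 w = 0 := by simp [ev]
theorem ev_zero3 (u v : Fin n → R) : ev T u v 0 = 0 := by simp [ev]

theorem ev_sum1 {ι : Type*} (s : Finset ι) (u : ι → Fin n → R) (v w : Fin n → R) :
    ev T (∑ a ∈ s, u a) v w = ∑ a ∈ s, ev T (u a) v w := by
  classical
  induction s using Finset.induction_on with
  | empty => simp [ev_zero1]
  | insert a s ha ih => rw [Finset.sum_insert ha, ev_add1, ih, Finset.sum_insert ha]

theorem ev_sum2 {ι : Type*} (s : Finset ι) (u : Fin n → R) (v : ι → Fin n → R) (w : Fin n → R) :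
    ev T u (∑ a ∈ s, v a) w = ∑ a ∈ s, ev T u (v a) w := by
  classical
  induction s using Finset.induction_on with
  | empty => simp [ev_zero2]
  | insert a s ha ih => rw [Finset.sum_insert ha, ev_add2, ih, Finset.sum_insert ha]

theorem ev_sum3 {ι : Type*} (s : Finset ι) (u v : Fin n → R) (w : ι → Fin n → R) :
    ev T u v (∑ a ∈ s, w a) = ∑ a ∈ s, ev T u v (w a) := by
  classical
  induction s using Finset.induction_on with
  | empty => simp [ev_zero3]
  | insert a s ha ih => rw [Finset.sum_insert ha, ev_add3, ih, Finset.sum_insert ha]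

end Sums

/-- restriction of a trilinear form along a linear map -/
def res (T : (Fin n → k) →ₗ[k] (Fin n → k) →ₗ[k] (Fin n → k) →ₗ[k] k) (W : (Fin m → k) →ₗ[k] (Fin n → k)) :
    (Fin m → k) →ₗ[k] (Fin m → k) →ₗ[k] (Fin m → k) →ₗ[k] k where
  toFun a := (T (W a)).compl₁₂ W W
  map_add' a b := by
    refine LinearMap.ext fun x => LinearMap.ext fun y => ?_
    simp [map_add]
  map_smul' c a := by
    refine LinearMap.ext fun x => LinearMap.ext fun y => ?_
    simp [map_smul]

theorem res_apply (T : (Fin n → k) →ₗ[k] (Fin n → k) →ₗ[k] (Fin n → k) →ₗ[k] k) (W : (Fin m → k) →ₗ[k] (Fin n → k))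
    (a b c : Fin m → k) : res T W a b c = T (W a) (W b) (W c) := rfl

/-- the extension of a linear map to vectors with entries in an algebra -/
def ext (R : Type*) [CommRing R] [Algebra k R] (W : (Fin m → k) →ₗ[k] (Fin n → k)) (φ : Fin m → R) : Fin n → R :=
  fun j => ∑ a, algebraMap k R (W (Pi.single a 1) j) * φ a

theorem ext_eq {R : Type*} [CommRing R] [Algebra k R] (W : (Fin m → k) →ₗ[k] (Fin n → k)) (φ : Fin m → R) :
    ext R W φ = ∑ a, φ a • fun j => algebraMap k R (W (Pi.single a 1) j) := by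
  funext j
  simp only [ext, Finset.sum_apply, Pi.smul_apply, smul_eq_mul]
  exact Finset.sum_congr rfl fun a _ => mul_comm _ _

theorem ev_res (T : (Fin n → k) →ₗ[k] (Fin n → k) →ₗ[k] (Fin n → k) →ₗ[k] k) (W : (Fin m → k) →ₗ[k] (Fin n → k))
    {R : Type*} [CommRing R] [Algebra k R] (u v w : Fin m → R) :
    ev (res T W) u v w = ev T (ext R W u) (ext R W v) (ext R W w) := by
  rw [ext_eq, ext_eq, ext_eq, ev_sum1, ev]
  refine Finset.sum_congr rfl fun a _ => ?_
  rw [ev_smul1, ev_sum2, Finset.mul_sum]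
  refine Finset.sum_congr rfl fun b _ => ?_
  rw [ev_smul2, ev_sum3, Finset.mul_sum, Finset.mul_sum]
  refine Finset.sum_congr rfl fun c _ => ?_
  rw [ev_smul3, ev_algebraMap, res_apply, Algebra.smul_def]
  ring

theorem ext_comp {p : ℕ} {R : Type*} [CommRing R] [Algebra k R] (W : (Fin m → k) →ₗ[k] (Fin n → k))
    (Z : (Fin p → k) →ₗ[k] (Fin m → k)) (φ : Fin p → R) : ext R W (ext R Z φ) = ext R (W ∘ₗ Z) φ := by
  funext j
  simp only [ext, LinearMap.comp_apply, Finset.mul_sum]
  rw [Finset.sum_comm]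
  refine Finset.sum_congr rfl fun a _ => ?_
  have h : W (Z (Pi.single a 1)) = ∑ b, Z (Pi.single a 1) b • W (Pi.single b 1) := by
    conv_lhs => rw [show Z (Pi.single a 1) = ∑ b, Z (Pi.single a 1) b • (Pi.single b (1 : k) : Fin m → k) by
      funext i; simp [Pi.single_apply, Finset.sum_apply]]
    simp only [map_sum, map_smul]
  rw [h]
  simp only [Finset.sum_apply, Pi.smul_apply, smul_eq_mul, map_sum, map_mul, Finset.sum_mul]
  exact Finset.sum_congr rfl fun b _ => by ring

/-- A cubic polynomial as the value of its trilinear form. -/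
theorem aeval_eq_ev [CharZero k] {f : MvPolynomial (Fin n) k} (hf : f.IsHomogeneous 3) {R : Type*} [CommRing R]
    [Algebra k R] (φ : Fin n → R) : MvPolynomial.aeval φ f = ev (tri f) φ φ φ := by
  have h1 : f = ev (R := MvPolynomial (Fin n) k) (tri f) MvPolynomial.X MvPolynomial.X MvPolynomial.X := by
    refine MvPolynomial.funext fun x => ?_
    have h2 := map_ev (tri f) (MvPolynomial.aeval x : MvPolynomial (Fin n) k →ₐ[k] k) MvPolynomial.X MvPolynomial.X
      MvPolynomial.X
    simp only [MvPolynomial.aeval_X] at h2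
    rw [← tri_diag hf, ← ev_const]
    exact h2.symm
  have h3 := map_ev (tri f) (MvPolynomial.aeval φ : MvPolynomial (Fin n) k →ₐ[k] R) MvPolynomial.X MvPolynomial.X
      MvPolynomial.X
  simp only [MvPolynomial.aeval_X] at h3
  rw [← h3, ← h1]

/-- The derivatives of a cubic polynomial. -/
theorem aeval_dir {n : ℕ} [CharZero k] {f : MvPolynomial (Fin (n + 1)) k} (hf : f.IsHomogeneous 3) {R : Type*} [CommRing R]
    [Algebra k R] (φ : Fin (n + 1) → R) (w : Fin (n + 1) → k) :
    MvPolynomial.aeval φ (dir w f) = 3 * ev (tri f) φ φ (fun j => algebraMap k R (w j)) := by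
  have h1 : dir w f = 3 * ev (R := MvPolynomial (Fin (n + 1)) k) (tri f) MvPolynomial.X MvPolynomial.X
      (fun j => algebraMap k _ (w j)) := by
    refine MvPolynomial.funext fun x => ?_
    have h2 := map_ev (tri f) (MvPolynomial.aeval x : MvPolynomial (Fin (n + 1)) k →ₐ[k] k) MvPolynomial.X
      MvPolynomial.X (fun j => algebraMap k _ (w j))
    simp only [MvPolynomial.aeval_X, AlgHom.commutes] at h2
    have h4 : ev (tri f) x x (fun j => (algebraMap k k) (w j)) = tri f x x w := ev_const (tri f) x x w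
    rw [h4] at h2
    have h5 : MvPolynomial.eval x (ev (R := MvPolynomial (Fin (n + 1)) k) (tri f) MvPolynomial.X MvPolynomial.X
      (fun j => algebraMap k _ (w j))) = tri f x x w := h2
    rw [map_mul, h5, map_ofNat, tri_pderiv hf, dir, map_sum]
    exact Finset.sum_congr rfl fun l _ => by rw [map_mul, MvPolynomial.eval_C]
  have h3 := map_ev (tri f) (MvPolynomial.aeval φ : MvPolynomial (Fin (n + 1)) k →ₐ[k] R) MvPolynomial.X
      MvPolynomial.X (fun j => algebraMap k _ (w j))
  simp only [MvPolynomial.aeval_X, AlgHom.commutes] at h3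
  rw [← h3, h1, map_mul, map_ofNat]

end Ev

section Hyp

variable {k : Type u} [Field k]

/-- coordinates on a hyperplane -/
theorem exists_WR {ℓ : (Fin 5 → k) →ₗ[k] k} (h : ℓ ≠ 0) :
    ∃ (W : (Fin 4 → k) →ₗ[k] (Fin 5 → k)) (R : (Fin 5 → k) →ₗ[k] (Fin 4 → k)) (w' : Fin 5 → k), ℓ w' = 1 ∧
      (∀ a, ℓ (W a) = 0) ∧ (∀ a, R (W a) = a) ∧ ∀ v, W (R v) = v - ℓ v • w' := by
  obtain ⟨e, he⟩ : ∃ e, ℓ e ≠ 0 := by
    by_contra hc
    push Not at hc
    exact h (LinearMap.ext hc)
  set w' : Fin 5 → k := (ℓ e)⁻¹ • e with hw'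
  have h1 : ℓ w' = 1 := by rw [hw', map_smul, smul_eq_mul, inv_mul_cancel₀ he]
  have hsurj : Function.Surjective ℓ := fun c => ⟨c • w', by rw [map_smul, h1, smul_eq_mul, mul_one]⟩
  have h4 : finrank k ↥(LinearMap.ker ℓ) = 4 := by
    have h2 := ℓ.finrank_range_add_finrank_ker
    rw [LinearMap.range_eq_top.2 hsurj, finrank_top, finrank_self, finrank_fin_fun] at h2
    omega
  let b : Basis (Fin 4) k ↥(LinearMap.ker ℓ) := finBasisOfFinrankEq k _ h4
  let π : (Fin 5 → k) →ₗ[k] ↥(LinearMap.ker ℓ) :=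
    LinearMap.codRestrict (LinearMap.ker ℓ) (LinearMap.id - ℓ.smulRight w') fun v => by
      rw [LinearMap.mem_ker, LinearMap.sub_apply, LinearMap.id_apply, LinearMap.smulRight_apply, map_sub, map_smul, h1,
        smul_eq_mul, mul_one, sub_self]
  have hπ : ∀ v, (π v : Fin 5 → k) = v - ℓ v • w' := fun v => rfl
  refine ⟨(LinearMap.ker ℓ).subtype ∘ₗ b.equivFun.symm.toLinearMap, b.equivFun.toLinearMap ∘ₗ π, w', h1, ?_, ?_, ?_⟩
  · intro a
    exact (b.equivFun.symm a).2
  · intro a
    have h5 : π ((b.equivFun.symm a : ↥(LinearMap.ker ℓ)) : Fin 5 → k) = b.equivFun.symm a := by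
      refine Subtype.ext ?_
      rw [hπ]
      have h6 : ℓ ((b.equivFun.symm a : ↥(LinearMap.ker ℓ)) : Fin 5 → k) = 0 := (b.equivFun.symm a).2
      rw [h6, zero_smul, sub_zero]
    change b.equivFun (π ((b.equivFun.symm a : ↥(LinearMap.ker ℓ)) : Fin 5 → k)) = a
    rw [h5, LinearEquiv.apply_symm_apply]
  · intro v
    change ((b.equivFun.symm (b.equivFun (π v)) : ↥(LinearMap.ker ℓ)) : Fin 5 → k) = _
    rw [LinearEquiv.symm_apply_apply, hπ]

variable [IsAlgClosed k] [CharZero k] {T : (Fin 5 → k) →ₗ[k] (Fin 5 → k) →ₗ[k] (Fin 5 → k) →ₗ[k] k}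
  {ℓ : (Fin 5 → k) →ₗ[k] k} {W : (Fin 4 → k) →ₗ[k] (Fin 5 → k)} {R : (Fin 5 → k) →ₗ[k] (Fin 4 → k)} {w' : Fin 5 → k}

theorem H1 (hT : IsSym3 T) (hsm : SmoothOn T ⊤) (hRW : ∀ a, R (W a) = a) (L : Submodule k (Fin 4 → k))
    (hL : 3 ≤ finrank k L) : ∃ v ∈ L, res T W v v v ≠ 0 := by
  have hinj : Function.Injective W := fun a b hab => by rw [← hRW a, ← hRW b, hab]
  have h1 : finrank k ↥(L.map W) = finrank k ↥L := (Submodule.equivMapOfInjective W hinj L).finrank_eq.symm
  obtain ⟨x, hx, hne⟩ := K972.Bad.no3 hT (by simp) hsm (W := L.map W) (h1.ge.trans' hL)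
  obtain ⟨v, hv, rfl⟩ := hx
  exact ⟨v, hv, hne⟩

theorem H2 (hT : IsSym3 T) (hsm : SmoothOn T ⊤) (hRW : ∀ a, R (W a) = a) (hWR : ∀ v, W (R v) = v - ℓ v • w')
    (L : Submodule k (Fin 4 → k)) (hL : finrank k L = 2) : ∃ v ∈ L, ∃ w, res T W v v w ≠ 0 := by
  have hinj : Function.Injective W := fun a b hab => by rw [← hRW a, ← hRW b, hab]
  by_contra hc
  push Not at hc
  let b : Basis (Fin 2) k ↥L := finBasisOfFinrankEq k _ hL
  obtain ⟨s, t, hst, h0⟩ := exists_quad_zero (T (W (b 0)) (W (b 0)) w') (2 * T (W (b 0)) (W (b 1)) w')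
    (T (W (b 1)) (W (b 1)) w')
  let z : ↥L := s • b 0 + t • b 1
  have hz : (z : Fin 4 → k) ≠ 0 := by
    intro hz0
    have hz1 : z = 0 := Subtype.ext hz0
    have h1 := congrArg b.repr hz1
    rw [map_zero] at h1
    have h2 : b.repr z = s • Finsupp.single 0 1 + t • Finsupp.single 1 1 := by
      simp [z, map_add, map_smul]
    rw [h2] at h1
    have hs : s = 0 := by
      have := DFunLike.congr_fun h1 0
      simpa using this
    have ht : t = 0 := by
      have := DFunLike.congr_fun h1 1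
      simpa using this
    rcases hst with h | h
    · exact h hs
    · exact h ht
  have hWz : W (z : Fin 4 → k) = s • W (b 0) + t • W (b 1) := by
    change W (((s • b 0 + t • b 1 : ↥L)) : Fin 4 → k) = _
    rw [Submodule.coe_add, Submodule.coe_smul, Submodule.coe_smul, map_add, map_smul, map_smul]
  have hq : T (W (z : Fin 4 → k)) (W (z : Fin 4 → k)) w' = 0 := by
    rw [hWz, hT.sq_smul_add_smul]
    linear_combination h0
  have hall : ∀ v, T (W (z : Fin 4 → k)) (W (z : Fin 4 → k)) v = 0 := by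
    intro v
    have h1 : v = W (R v) + ℓ v • w' := by rw [hWR, sub_add_cancel]
    rw [h1, map_add, map_smul, hq, smul_zero, add_zero]
    exact hc z z.2 (R v)
  have hWz0 : W (z : Fin 4 → k) ≠ 0 := fun h => hz (hinj (h.trans (map_zero W).symm))
  obtain ⟨w, -, hw⟩ := hsm _ trivial hWz0 (hall _)
  exact hw (hall w)

end Hyp

section Main

variable {k : Type u} [Field k] [IsAlgClosed k] [CharZero k] {ι : Type*} [Fintype ι] {O : ι → Type*}
  [∀ i, CommRing (O i)] [∀ i, IsDomain (O i)] [∀ i, IsDiscreteValuationRing (O i)] [∀ i, Algebra k (O i)]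

/-- **Independent conditions at the zeros of the gradient of a hyperplane section.** -/
theorem main {f : MvPolynomial (Fin 5) k} (hf : f.IsHomogeneous 3) (hsm : SmoothOn (tri f) ⊤)
    {ℓ : (Fin 5 → k) →ₗ[k] k} (hℓ : ℓ ≠ 0)
    (hres : ∀ i (x : O i), ∃ a : k, x - algebraMap k (O i) a ∈ maximalIdeal (O i))
    (φ : ∀ i, Fin 5 → O i) (h0 : ∀ i, MvPolynomial.aeval (φ i) f = 0)
    (hlin : ∀ i, ∑ j, algebraMap k (O i) (ℓ (Pi.single j 1)) * φ i j = 0) (δ : ι → ℕ)
    (hd : ∀ i w, ℓ w = 0 → MvPolynomial.aeval (φ i) (dir w f) ∈ maximalIdeal (O i) ^ δ i)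
    (himm : ∀ δ' : ι → ℕ, (∀ i, δ' i ≤ δ i) → ∑ i, δ' i ≤ 2 → Sur k φ δ') :
    Sur k φ δ ∧ ∑ i, δ i ≤ 4 := by
  obtain ⟨W, R, w', h1, hW, hRW, hWR⟩ := exists_WR hℓ
  let ψ : ∀ i, Fin 4 → O i := fun i => ext (O i) R (φ i)
  have hψ : ∀ i, ext (O i) W (ψ i) = φ i := by
    intro i
    change ext (O i) W (ext (O i) R (φ i)) = φ i
    rw [ext_comp]
    funext j
    have h2 : ∀ a, (W ∘ₗ R) (Pi.single a 1) j = (Pi.single a (1 : k) : Fin 5 → k) j - ℓ (Pi.single a 1) * w' j := by
      intro a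
      rw [LinearMap.comp_apply, hWR]
      rfl
    simp only [ext, h2, map_sub, map_mul, sub_mul, Finset.sum_sub_distrib]
    have h3 : ∑ a, (algebraMap k (O i)) ((Pi.single a (1 : k) : Fin 5 → k) j) * φ i a = φ i j := by
      simp [Pi.single_apply]
    have h4 : ∑ a, (algebraMap k (O i)) (ℓ (Pi.single a 1)) * (algebraMap k (O i)) (w' j) * φ i a = 0 := by
      rw [← mul_zero ((algebraMap k (O i)) (w' j)), ← hlin i, Finset.mul_sum]
      exact Finset.sum_congr rfl fun a _ => by ring
    rw [h3, h4, sub_zero]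
  -- surjectivity transported between the two systems of coordinates
  have hto : ∀ δ' : ι → ℕ, Sur k φ δ' → Sur k ψ δ' := by
    intro δ' hs g
    obtain ⟨c, hc⟩ := hs g
    refine ⟨fun a => ∑ j, c j * W (Pi.single a 1) j, fun i => ?_⟩
    convert hc i using 2
    conv_rhs => rw [← hψ i]
    simp only [ext, Finset.smul_sum, Finset.sum_smul]
    rw [Finset.sum_comm]
    refine Finset.sum_congr rfl fun j _ => Finset.sum_congr rfl fun a _ => ?_
    rw [Algebra.smul_def, Algebra.smul_def, map_mul]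
    ring
  have hfrom : ∀ δ' : ι → ℕ, Sur k ψ δ' → Sur k φ δ' := by
    intro δ' hs g
    obtain ⟨c, hc⟩ := hs g
    refine ⟨fun j => ∑ a, c a * R (Pi.single j 1) a, fun i => ?_⟩
    convert hc i using 2
    simp only [ψ, ext, Finset.smul_sum, Finset.sum_smul]
    rw [Finset.sum_comm]
    refine Finset.sum_congr rfl fun a _ => Finset.sum_congr rfl fun j _ => ?_
    rw [Algebra.smul_def, Algebra.smul_def, map_mul]
    ring
  have hT' : IsSym3 (res (tri f) W) := ⟨fun u v w => (tri_sym f).s12 _ _ _, fun u v w => (tri_sym f).s23 _ _ _⟩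
  have hinf : Infinite k := Infinite.of_injective (Nat.cast : ℕ → k) Nat.cast_injective
  have hsur : Sur k ψ δ := by
    refine sur_of hT' le_rfl (H1 (tri_sym f) hsm hRW) (H2 (tri_sym f) hsm hRW hWR) hres ψ (fun i => ?_) δ
      (fun i c => ?_) fun δ' hle h2 => hto δ' (himm δ' hle h2)
    · rw [ev_res, hψ, ← aeval_eq_ev hf, h0]
    · rw [ev_res, hψ]
      have h5 : ext (O i) W (Pi.single c 1) = fun j => algebraMap k (O i) (W (Pi.single c 1) j) := by
        funext j
        simp [ext, Pi.single_apply]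
      rw [h5]
      have h6 := hd i (W (Pi.single c 1)) (hW _)
      rw [aeval_dir hf] at h6
      have h7 : (algebraMap k (O i) 3⁻¹) * (3 * ev (tri f) (φ i) (φ i)
          (fun j => algebraMap k (O i) (W (Pi.single c 1) j))) =
          ev (tri f) (φ i) (φ i) (fun j => algebraMap k (O i) (W (Pi.single c 1) j)) := by
        have h8 : (algebraMap k (O i) 3⁻¹) * 3 = 1 := by
          have h9 : (3 : O i) = algebraMap k (O i) 3 := (map_ofNat _ 3).symm
          rw [h9, ← map_mul, inv_mul_cancel₀ (by norm_num : (3 : k) ≠ 0), map_one]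
        rw [← mul_assoc, h8, one_mul]
      rw [← h7]
      exact Ideal.mul_mem_left _ _ h6
  exact ⟨hfrom δ hsur, sum_le_of_sur hres ψ δ hsur⟩

end Main

end K972.WAlg
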