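import Groth.Agent.Fano.K972.GradDer
import Groth.Agent.Fano.K554.ConDeg
import Groth.Agent.DefT.K693.ConFam
import Groth.Agent.Divis.StalkMod

/-!
# Vanishing of the class of a linear form in the conormal sheaf and the gradient of the cubic (S16528, (W))

`i : C ⟶ X_f` a closed immersion, `l` a linear form vanishing on `C`. If the class of `l` in the conormal sheaf of `i`
vanishes to order `d` at `x` (`VanAt`), then the derivatives `∂_w f`, `w ∈ ker l`, lie in `m_x ^ d` (`dir_mem`): the field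
`∂_{w'} f · w - ∂_w f · w'` (`l w' = 1`) is tangent to `X_f` and defines a map from the conormal sheaf to functions.
-/

set_option autoImplicit false
universe u

open CategoryTheory CategoryTheory.Limits AlgebraicGeometry TopologicalSpace Opposite

namespace K972.WCon

open LefPen K715.Geo K715.Gens K715.Res K560.FormMaps
open Groth.Agent Groth.Agent.Lefpen.H705.HypIdeal Groth.Agent.Lefpen.H705.ChartPoly Groth.Agent.Sga5
open Groth.Agent.Fdesc.LocGen Groth.Agent.Fano.K714.Rat
open K255.Pf K554.ConDeg K972.GradDer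

/-- Linear functionals on the sections of a quasi-coherent module over an affine open extend to the stalks. -/
theorem exists_functional {X : Scheme.{u}} {M : X.Modules} (hM : Coh.IsQCoh M) {V : X.Opens} (hV : IsAffineOpen V)
    {x : X} (hx : x ∈ V) (L : Γ(M, V) →ₗ[Γ(X, V)] Γ(X, V)) :
    ∃ Λ : M.presheaf.stalk x →ₗ[X.presheaf.stalk x] X.presheaf.stalk x,
      ∀ m, Λ (M.presheaf.germ V x hx m) = X.presheaf.germ V x hx (L m) := by
  refine Groth.Agent.Divis.StalkMod.stalk_elim M hM hV x hx (fun _ _ _ _ l hl halg _ => ?_)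
  let S := (hV.primeIdealOf ⟨x, hx⟩).asIdeal.primeCompl
  let φ : Γ(M, V) →ₗ[Γ(X, V)] X.presheaf.stalk x := (Algebra.linearMap Γ(X, V) (X.presheaf.stalk x)).comp L
  have hu : ∀ s : S, IsUnit ((algebraMap Γ(X, V) (Module.End Γ(X, V) (X.presheaf.stalk x))) s) := by
    intro s
    have h1 : IsUnit (algebraMap Γ(X, V) (X.presheaf.stalk x) s) := IsLocalization.map_units (X.presheaf.stalk x) s
    rw [Module.End.isUnit_iff]
    constructor
    · intro a b hab
      have hab' : (s : Γ(X, V)) • a = (s : Γ(X, V)) • b := hab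
      rw [Algebra.smul_def, Algebra.smul_def] at hab'
      exact h1.mul_left_cancel hab'
    · intro b
      obtain ⟨u, hu⟩ := h1
      refine ⟨↑u⁻¹ * b, ?_⟩
      change (s : Γ(X, V)) • (↑u⁻¹ * b) = b
      rw [Algebra.smul_def, ← hu, ← mul_assoc, Units.mul_inv, one_mul]
  let φ' := IsLocalizedModule.lift S l φ hu
  refine ⟨φ'.extendScalarsOfIsLocalization S (X.presheaf.stalk x), fun m => ?_⟩
  have h2 : φ' (l m) = φ m := IsLocalizedModule.lift_apply S l φ hu m
  rw [← hl, ← halg]
  exact h2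

theorem functional_mem {X : Scheme.{u}} {M : X.Modules} {x : X}
    (Λ : M.presheaf.stalk x →ₗ[X.presheaf.stalk x] X.presheaf.stalk x) {I : Ideal (X.presheaf.stalk x)}
    {z : M.presheaf.stalk x} (hz : z ∈ I • (⊤ : Submodule (X.presheaf.stalk x) (M.presheaf.stalk x))) : Λ z ∈ I := by
  have h := Submodule.mem_map_of_mem (f := Λ) hz
  rw [Submodule.map_smul''] at h
  have h2 : I • Submodule.map Λ ⊤ ≤ I := by
    rw [Submodule.smul_le]
    intro r hr n _
    exact Ideal.mul_mem_right _ _ hr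
  exact h2 h

variable {k : Type u} [Field k]

/-- polynomials and functions on the chart -/
noncomputable def pe (m : Fin 5) : MvPolynomial (Fin 4) k ≃+* Γ(CohB1.ProjSpace 4 k, chart 4 k m) :=
  RingEquiv.ofBijective (polyToChart m) (polyToChart_bijective m)

theorem rho_eq_pe (m : Fin 5) (G : MvPolynomial (Fin 5) k) :
    rho m (le_refl (chart 4 k m)) G = pe m (ProjChart.dehom 4 k m G) := by
  change (CohB1.ProjSpace 4 k).presheaf.map (homOfLE _).op (polyToChart m (ProjChart.dehom 4 k m G)) = _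
  have h : (homOfLE (le_refl (chart 4 k m))).op = 𝟙 (op (chart 4 k m)) := rfl
  rw [h, CategoryTheory.Functor.map_id]
  rfl

theorem isHomogeneous_one_eq {l : MvPolynomial (Fin 5) k} (hl : l.IsHomogeneous 1) :
    l = ∑ j, MvPolynomial.X j * MvPolynomial.pderiv j l := by
  rw [hl.sum_X_mul_pderiv, one_smul]

theorem pderiv_const {l : MvPolynomial (Fin 5) k} (hl : l.IsHomogeneous 1) (j : Fin 5) :
    ∃ a : k, MvPolynomial.pderiv j l = MvPolynomial.C a := by
  have h := hl.pderiv (i := j)
  exact ⟨_, MvPolynomial.totalDegree_eq_zero_iff_eq_C.1 (Nat.le_zero.1 h.totalDegree_le)⟩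

theorem dir_lin {l : MvPolynomial (Fin 5) k} (hl : l.IsHomogeneous 1) (w : Fin 5 → k) :
    dir w l = MvPolynomial.C (MvPolynomial.eval w l) := by
  choose a ha using pderiv_const hl
  have h1 : l = ∑ j, MvPolynomial.X j * MvPolynomial.C (a j) := by
    conv_lhs => rw [isHomogeneous_one_eq hl]
    exact Finset.sum_congr rfl fun j _ => by rw [ha]
  have h2 : MvPolynomial.eval w l = ∑ j, w j * a j := by
    rw [h1]
    simp
  rw [h2, dir, map_sum]
  exact Finset.sum_congr rfl fun j _ => by rw [ha, map_mul]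

theorem exists_one {l : LefPen.Form 4 k 1} (hl : l ≠ 0) : ∃ w' : Fin 5 → k, MvPolynomial.eval w' l.1 = 1 := by
  have hlh : l.1.IsHomogeneous 1 := (MvPolynomial.mem_homogeneousSubmodule _ _).1 l.2
  choose a ha using pderiv_const hlh
  by_contra hc
  push Not at hc
  refine hl (Subtype.ext ?_)
  have h0 : ∀ j, a j = 0 := by
    intro j
    by_contra hj
    refine hc (Pi.single j (a j)⁻¹) ?_
    have h1 : l.1 = ∑ j, MvPolynomial.X j * MvPolynomial.C (a j) := by
      conv_lhs => rw [isHomogeneous_one_eq hlh]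
      exact Finset.sum_congr rfl fun j _ => by rw [ha]
    rw [h1]
    simp [Pi.single_apply, hj]
  rw [isHomogeneous_one_eq hlh]
  refine Finset.sum_eq_zero fun j _ => ?_
  rw [ha, h0, map_zero, mul_zero]

variable {C : Scheme.{u}} (f : LefPen.Form 4 k 3) (i : C ⟶ Xf f)

theorem app_f_eq_zero (m : Fin 5) : (emb f).app (chart 4 k m) (pe m (ProjChart.dehom 4 k m f.1)) = 0 := by
  have h1 : pe m (ProjChart.dehom 4 k m f.1) ∈ (hypIdeal f).ideal ⟨chart 4 k m, isAffineOpen_chart m⟩ := by
    rw [ideal_hyp m ⟨chart 4 k m, isAffineOpen_chart m⟩ le_rfl, ← rho_eq_pe]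
    exact Ideal.mem_span_singleton_self _
  rw [← Scheme.IdealSheafData.ker_subschemeι_app] at h1
  exact h1

/-- the map of the conormal sheaf to functions given by the field -/
theorem exists_L [IsClosedImmersion i] (w w' : Fin 5 → k) (m : Fin 5) :
    ∃ L : Γ(Omega.conormal i, i ⁻¹ᵁ (emb f) ⁻¹ᵁ chart 4 k m) →ₗ[Γ(C, i ⁻¹ᵁ (emb f) ⁻¹ᵁ chart 4 k m)]
        Γ(C, i ⁻¹ᵁ (emb f) ⁻¹ᵁ chart 4 k m),
      ∀ P : MvPolynomial (Fin 4) k, K693.ConFam.rho i (emb f) (chart 4 k m) (pe m P) = 0 →
        L (K693.ConFam.cl i (emb f) (chart 4 k m) (pe m P)) =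
          K693.ConFam.rho i (emb f) (chart 4 k m) (pe m (Dm m (fld f.1 w w') P)) := by
  have hfh : f.1.IsHomogeneous 3 := (MvPolynomial.mem_homogeneousSubmodule _ _).1 f.2
  have hfz' : K693.ConFam.rho i (emb f) (chart 4 k m) (pe m (ProjChart.dehom 4 k m f.1)) = 0 := by
    rw [K693.ConFam.rho_apply, app_f_eq_zero, map_zero]
  obtain ⟨L, hL⟩ := K693.ConFam.exists_lin i (emb f) (isAffineOpen_chart m) (G := Coh.structureModule C)
    (fun y => ofFun (K693.ConFam.rho i (emb f) (chart 4 k m) (pe m (Dm m (fld f.1 w w') ((pe m).symm y)))))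
    (fun x y _ _ => by
      simp only [map_add]
      rfl)
    (fun r x hx => by
      have h1 : K693.ConFam.rho i (emb f) (chart 4 k m) (pe m (Dm m (fld f.1 w w') ((pe m).symm (r * x)))) =
          K693.ConFam.rho i (emb f) (chart 4 k m) r *
            K693.ConFam.rho i (emb f) (chart 4 k m) (pe m (Dm m (fld f.1 w w') ((pe m).symm x))) := by
        rw [map_mul, Derivation.leibniz, smul_eq_mul, smul_eq_mul, map_add, map_mul, map_mul, map_add, map_mul,
          map_mul, RingEquiv.apply_symm_apply, RingEquiv.apply_symm_apply, hx, zero_mul, add_zero]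
      exact h1)
    (fun x hx => by
      have h1 : x ∈ (hypIdeal f).ideal ⟨chart 4 k m, isAffineOpen_chart m⟩ := by
        rw [← Scheme.IdealSheafData.ker_subschemeι_app]
        exact hx
      rw [ideal_hyp m ⟨chart 4 k m, isAffineOpen_chart m⟩ le_rfl] at h1
      obtain ⟨A, hA⟩ := Ideal.mem_span_singleton'.1 h1
      have hA' : x = A * pe m (ProjChart.dehom 4 k m f.1) := by
        rw [← rho_eq_pe]
        exact hA.symm
      have h2 : K693.ConFam.rho i (emb f) (chart 4 k m) (pe m (Dm m (fld f.1 w w') ((pe m).symm x))) = 0 := by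
        rw [hA', map_mul, RingEquiv.symm_apply_apply, Derivation.leibniz, smul_eq_mul, smul_eq_mul, Dm_f m hfh]
        simp only [map_add, map_mul, hfz', mul_zero, zero_mul, add_zero]
      exact h2)
  refine ⟨L, fun P hP => ?_⟩
  have h := hL _ hP
  rw [RingEquiv.symm_apply_apply] at h
  exact h



/-- **The key condition**: if the class of `l` vanishes to order `d` at `x` in the conormal sheaf then the derivatives of
`f` along the hyperplane `l = 0` lie in `m_x ^ d`. -/
theorem dir_mem [IsClosedImmersion i] {l : LefPen.Form 4 k 1} (hl0 : l ≠ 0) (hl : hypIdeal l ≤ (i ≫ emb f).ker) {x : C} {d : ℕ}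
    (hV : VanAt f i l x d) {w : Fin 5 → k} (hw : MvPolynomial.eval w l.1 = 0) (m : Fin 5)
    (hx : x ∈ (i ≫ emb f) ⁻¹ᵁ chart 4 k m) :
    C.presheaf.germ _ x hx ((i ≫ emb f).app (chart 4 k m) (rho m le_rfl (dir w f.1))) ∈
      IsLocalRing.maximalIdeal (C.presheaf.stalk x) ^ d := by
  obtain ⟨w', hw'⟩ := exists_one hl0
  have hlh : l.1.IsHomogeneous 1 := (MvPolynomial.mem_homogeneousSubmodule _ _).1 l.2
  obtain ⟨L, hL⟩ := exists_L f i w w' m
  obtain ⟨c, hc⟩ := K419.ThetaMap.exists_c i (emb f) l hl m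
  have h1 := hV m hx c hc
  have haff : IsAffineOpen (i ⁻¹ᵁ (emb f) ⁻¹ᵁ chart 4 k m) := ((isAffineOpen_chart m).preimage (emb f)).preimage i
  obtain ⟨Λ, hΛ⟩ := exists_functional (Groth.Agent.Dual.H366.ConSec.isQCoh_conormal i) haff hx L
  have h2 := functional_mem Λ h1
  have hcl : K693.ConFam.cl i (emb f) (chart 4 k m) (pe m (ProjChart.dehom 4 k m l.1)) = pullSec i c := by
    rw [← rho_eq_pe]
    exact (K693.ConFam.cl_eq i (emb f) hc).trans (res_refl _ (pullSec i c))
  have hz : K693.ConFam.rho i (emb f) (chart 4 k m) (pe m (ProjChart.dehom 4 k m l.1)) = 0 := by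
    rw [K693.ConFam.rho_apply, ← rho_eq_pe]
    exact (Groth.Agent.Dual.H366.ConSec.app_eq_zero_iffS i _ _).2 ⟨c, hc⟩
  have h3 := hL _ hz
  rw [hcl, Dm_lin m f.1 w w' hlh (by rw [dir_lin hlh, hw, map_zero]) (by rw [dir_lin hlh, hw', map_one])] at h3
  have h4 : L (pullSec i c) = - K693.ConFam.rho i (emb f) (chart 4 k m) (pe m (ProjChart.dehom 4 k m (dir w f.1))) := by
    rw [h3, map_sub, map_sub, map_mul, map_mul, hz, mul_zero, sub_zero, map_neg, map_neg]
  have h5 : Λ ((Omega.conormal i).presheaf.germ _ x hx (pullSec i c)) = _ := hΛ (pullSec i c)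
  rw [h5, h4, map_neg, neg_mem_iff] at h2
  have h6 : (i ≫ emb f).app (chart 4 k m) (rho m le_rfl (dir w f.1)) =
      K693.ConFam.rho i (emb f) (chart 4 k m) (pe m (ProjChart.dehom 4 k m (dir w f.1))) := by
    rw [K693.ConFam.rho_apply, ← rho_eq_pe, Scheme.Hom.comp_app]
    rfl
  rw [h6]
  exact h2

end K972.WCon
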