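import Groth.Agent.Fano.K972.WMain
import Groth.Agent.Fano.K419.LimE2

/-!
# The last two inputs of S16528

`K419.LimE.WStmt`, `K783.ExNonDeg.NonLinStmt` and `K783.ExNonDeg.WStmt` for every smooth cubic threefold.
-/

set_option autoImplicit false
universe u

open CategoryTheory CategoryTheory.Limits AlgebraicGeometry TopologicalSpace Opposite

namespace K972.WFin

open LefPen K715.Geo Groth.Agent.Fano.K714.Rat

variable {k : Type u} [Field k] [IsAlgClosed k] [CharZero k]

theorem wStmt (f : Form 4 k 3) (hf : f ≠ 0) [Smooth (ps f)] : K419.LimE.WStmt f := by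
  intro C p i hcl hip hsm hpr hint hdim l hl0 hl
  exact K972.WMain.indepStmt f hf p i hip hdim l hl0 hl

theorem nonLin (f : Form 4 k 3) (hf : f ≠ 0) [Smooth (ps f)] : K783.ExNonDeg.NonLinStmt f :=
  K419.LimE2.nonLin f hf (wStmt f hf)

end K972.WFin
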