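import Groth.Agent.Fano.K972.WCon
import Groth.Agent.Fano.K972.WAlg
import Groth.Agent.Fano.K554.PtCurve
import Groth.Agent.Fano.K419.ThetaDef
import Groth.Agent.Fano.K783.ExNonDeg
import Groth.Agent.Fano.K714.JacSm

/-!
# The zeros of the class of a hyperplane in the conormal sheaf of a curve on a cubic threefold (S16528, (W))

`C` a smooth curve on the smooth cubic threefold `X_f`, contained in the hyperplane `l = 0`: the divisor on which the
class of `l` in the conormal sheaf vanishes imposes independent conditions on linear forms (`indepStmt`), in particular it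
has degree at most `4` (`vanBound`, `wStmt`).
-/

set_option autoImplicit false
universe u

open CategoryTheory CategoryTheory.Limits AlgebraicGeometry TopologicalSpace Opposite

namespace K972.WMain

open LefPen K715.Geo K715.Gens K715.Res K560.FormMaps
open Groth.Agent Groth.Agent.Lefpen.H705.HypIdeal Groth.Agent.Lefpen.H705.ChartPoly Groth.Agent.Sga5
open Groth.Agent.Fdesc.LocGen Groth.Agent.Fano.K714.Rat
open K255.Pf K554.ConDeg K554.PtCurve K972.GradDer

variable {k : Type u} [Field k]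

/-- The values of polynomials at the coordinates. -/
theorem aeval_co {n : ℕ} {C : Scheme.{u}} (j : C ⟶ CohB1.ProjSpace n k) (p : C ⟶ Spec (CommRingCat.of k))
    (hp : j ≫ CohB1.ProjSpace.toSpec n k = p) (m : Fin (n + 1)) (x : C) (hx : x ∈ j ⁻¹ᵁ chart n k m)
    (P : MvPolynomial (Fin (n + 1)) k) :
    letI := (cst p x).toAlgebra
    MvPolynomial.aeval (co j m x hx) P = evp j m x hx P := by
  let := (cst p x).toAlgebra
  have h : ((MvPolynomial.aeval (co j m x hx) : MvPolynomial (Fin (n + 1)) k →ₐ[k] C.presheaf.stalk x) :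
      MvPolynomial (Fin (n + 1)) k →+* C.presheaf.stalk x) = evp j m x hx := by
    refine MvPolynomial.ringHom_ext (fun a => ?_) fun l => ?_
    · rw [evp_C j p hp]
      exact (MvPolynomial.aeval _).commutes a
    · rw [evp_X]
      exact MvPolynomial.aeval_X _ _
  exact congrArg (fun φ => φ P) h

variable [IsAlgClosed k] [CharZero k]

/-- **(W)**: the linear forms map onto `∏ O_x / m_x ^ δ_x`. -/
theorem sur (f : Form 4 k 3) (hf : f ≠ 0) [Smooth (ps f)] {C : Scheme.{u}} (p : C ⟶ Spec (CommRingCat.of k))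
    (i : C ⟶ Xf f) [IsClosedImmersion i] (hip : i ≫ ps f = p) [Smooth p] [IsProper p] [IsIntegral C]
    (hdim : topologicalKrullDim C = 1) (l : Form 4 k 1) (hl0 : l ≠ 0) (hl : hypIdeal l ≤ (i ≫ emb f).ker)
    (B : Finset C) (δ : C → ℕ) (hB : ∀ x ∈ B, IsClosed ({x} : Set C)) (hV : ∀ x ∈ B, VanAt f i l x (δ x))
    (mc : C → Fin 5) (hmc : ∀ x ∈ B, x ∈ (i ≫ emb f) ⁻¹ᵁ chart 4 k (mc x)) :
    letI : ∀ x : B, Algebra k (C.presheaf.stalk (x : C)) := fun x => (cst p (x : C)).toAlgebra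
    K433.Indep.Sur k (O := fun x : B => C.presheaf.stalk (x : C))
      (fun x => co (i ≫ emb f) (mc x) (x : C) (hmc x x.2)) (fun x => δ x) ∧ ∑ x : B, δ x ≤ 4 := by
  classical
  let : ∀ x : B, Algebra k (C.presheaf.stalk (x : C)) := fun x => (cst p (x : C)).toAlgebra
  have hdvr : ∀ x : B, IsDiscreteValuationRing (C.presheaf.stalk (x : C)) := fun x => isDVR p hdim x (hB x x.2)
  have hp : (i ≫ emb f) ≫ CohB1.ProjSpace.toSpec 4 k = p := by
    rw [Category.assoc]; exact hip
  have hfh : f.1.IsHomogeneous 3 := (MvPolynomial.mem_homogeneousSubmodule _ _).1 f.2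
  have hsm := Groth.Agent.Fano.K714.JacSm.smoothOn_tri f hf inferInstance
  have hlh : l.1.IsHomogeneous 1 := (MvPolynomial.mem_homogeneousSubmodule _ _).1 l.2
  -- the linear form
  choose a ha using K972.WCon.pderiv_const hlh
  have hla : l.1 = ∑ j, MvPolynomial.C (a j) * MvPolynomial.X j := by
    conv_lhs => rw [K972.WCon.isHomogeneous_one_eq hlh]
    exact Finset.sum_congr rfl fun j _ => by rw [ha, mul_comm]
  let ℓ : (Fin 5 → k) →ₗ[k] k := ∑ j, a j • LinearMap.proj j
  have hℓ : ∀ w, ℓ w = MvPolynomial.eval w l.1 := by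
    intro w
    rw [hla]
    simp [ℓ, LinearMap.sum_apply]
  have hℓ0 : ℓ ≠ 0 := by
    intro h0
    obtain ⟨w', hw'⟩ := K972.WCon.exists_one hl0
    rw [← hℓ, h0, LinearMap.zero_apply] at hw'
    exact zero_ne_one hw'
  refine K972.WAlg.main (O := fun x : B => C.presheaf.stalk (x : C)) hfh hsm hℓ0
    (fun x z => exists_sub_cst_mem p (x : C) (hB x x.2) z)
    (fun x => co (i ≫ emb f) (mc x) (x : C) (hmc x x.2)) (fun x => ?_) (fun x => ?_) (fun x => δ x) (fun x w hw => ?_)
    (fun δ' hle h2 => ?_)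
  · -- `f` vanishes
    refine (aeval_co (i ≫ emb f) p hp (mc x) (x : C) (hmc x x.2) f.1).trans ?_
    have h : (i ≫ emb f).app (chart 4 k (mc x)) (rho (mc x) le_rfl f.1) = 0 := by
      rw [K972.WCon.rho_eq_pe, Scheme.Hom.comp_app]
      exact (congrArg (fun z => i.app _ z) (K972.WCon.app_f_eq_zero f (mc x))).trans (map_zero _)
    rw [evp_apply, h, map_zero]
  · -- `l` vanishes
    have h1 : ∀ j, ℓ (Pi.single j 1) = a j := by
      intro j
      simp [ℓ, LinearMap.sum_apply, Pi.single_apply]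
    have h2 : (∑ j, algebraMap k (C.presheaf.stalk (x : C)) (ℓ (Pi.single j 1)) *
        co (i ≫ emb f) (mc x) (x : C) (hmc x x.2) j) = evp (i ≫ emb f) (mc x) (x : C) (hmc x x.2) l.1 := by
      rw [hla, map_sum]
      refine Finset.sum_congr rfl fun j _ => ?_
      rw [map_mul, evp_C _ p hp, evp_X, h1]
      rfl
    rw [h2, evp_apply, (K783.LinPts.hyp_le_iff (i ≫ emb f) (mc x) ⟨x, hmc x x.2⟩ l).1 hl, map_zero]
  · -- the derivatives
    rw [hℓ] at hw
    have h1 := K972.WCon.dir_mem f i hl0 hl (hV x x.2) hw (mc x) (hmc x x.2)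
    have h2 := aeval_co (i ≫ emb f) p hp (mc x) (x : C) (hmc x x.2) (dir w f.1)
    rw [evp_apply] at h2
    rw [← h2] at h1
    exact h1
  · -- schemes of length two
    intro g
    let δ'' : C → ℕ := fun x => if h : x ∈ B then δ' ⟨x, h⟩ else 0
    let g' : ∀ x : C, C.presheaf.stalk x := fun x => if h : x ∈ B then g ⟨x, h⟩ else 0
    have h3 : ∑ x ∈ B, δ'' x ≤ 2 := by
      rw [← Finset.sum_coe_sort]
      refine le_trans (le_of_eq ?_) h2
      exact Finset.sum_congr rfl fun x _ => dif_pos x.2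
    obtain ⟨c, hc⟩ := exists_lin (i ≫ emb f) p hp B hB mc hmc δ'' h3 g'
    refine ⟨c, fun x => ?_⟩
    have h4 := hc x x.2
    have h5 : δ'' x = δ' x := dif_pos x.2
    have h6 : g' x = g x := dif_pos x.2
    rw [h5, h6] at h4
    exact h4

theorem exists_mc {n : ℕ} {C : Scheme.{u}} (j : C ⟶ CohB1.ProjSpace n k) :
    ∃ mc : C → Fin (n + 1), ∀ x, x ∈ j ⁻¹ᵁ chart n k (mc x) := by
  have h : ∀ x : C, ∃ m : Fin (n + 1), x ∈ j ⁻¹ᵁ chart n k m := by
    intro x
    have h1 : j x ∈ (⨆ m : Fin (n + 1), chart n k m) := by rw [iSup_chart]; trivial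
    obtain ⟨m, hm⟩ := TopologicalSpace.Opens.mem_iSup.1 h1
    exact ⟨m, hm⟩
  exact ⟨fun x => (h x).choose, fun x => (h x).choose_spec⟩

theorem vanBound (f : Form 4 k 3) (hf : f ≠ 0) [Smooth (ps f)] {C : Scheme.{u}} (p : C ⟶ Spec (CommRingCat.of k))
    (i : C ⟶ Xf f) [IsClosedImmersion i] (hip : i ≫ ps f = p) [Smooth p] [IsProper p] [IsIntegral C]
    (hdim : topologicalKrullDim C = 1) (l : Form 4 k 1) (hl0 : l ≠ 0) (hl : hypIdeal l ≤ (i ≫ emb f).ker) :
    VanBound f i l := by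
  intro B δ hB hV
  obtain ⟨mc, hmc⟩ := exists_mc (i ≫ emb f)
  rw [← Finset.sum_coe_sort]
  exact (sur f hf p i hip hdim l hl0 hl B δ hB hV mc fun x _ => hmc x).2

/-- The divisor of the class of `l` imposes independent conditions on linear forms. -/
theorem indepStmt (f : Form 4 k 3) (hf : f ≠ 0) [Smooth (ps f)] {C : Scheme.{u}} (p : C ⟶ Spec (CommRingCat.of k))
    (i : C ⟶ Xf f) [IsClosedImmersion i] (hip : i ≫ ps f = p) [Smooth p] [IsProper p] [IsIntegral C]
    (hdim : topologicalKrullDim C = 1) (l : Form 4 k 1) (hl0 : l ≠ 0) (hl : hypIdeal l ≤ (i ≫ emb f).ker) :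
    K419.ThetaDef.IndepStmt f i l := by
  intro B δ hB hV
  obtain ⟨mc, hmc⟩ := exists_mc (i ≫ emb f)
  have hp : (i ≫ emb f) ≫ CohB1.ProjSpace.toSpec 4 k = p := by
    rw [Category.assoc]; exact hip
  let : ∀ x : B, Algebra k (C.presheaf.stalk (x : C)) := fun x => (cst p (x : C)).toAlgebra
  have hdvr : ∀ x : B, IsDiscreteValuationRing (C.presheaf.stalk (x : C)) := fun x => isDVR p hdim x (hB x x.2)
  refine K419.ThetaDef.indep_of_sur (i ≫ emb f) B δ (fun x => mc x) (fun x => hmc x) (fun x a => ?_)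
    (fun x z => exists_sub_cst_mem p (x : C) (hB x x.2) z)
    (sur f hf p i hip hdim l hl0 hl B δ hB hV mc fun x _ => hmc x).1
  exact (evp_C (i ≫ emb f) p hp (mc x) (x : C) (hmc x) a).symm

/-- `K783.ExNonDeg.WStmt`. -/
theorem wStmt (f : Form 4 k 3) (hf : f ≠ 0) [Smooth (ps f)] : K783.ExNonDeg.WStmt f := by
  intro C p i hcl hip hsm hpr hint hdim _ _ l hl0 hl
  exact vanBound f hf p i hip hdim l hl0 hl

end K972.WMain
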